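import Cfsg.Agent.Lib.Mult.E62.P2C0
import Cfsg.Agent.Lib.Mult.E62.P2C1

set_option autoImplicit false
set_option maxRecDepth 100000
set_option Elab.async false

namespace Cfsg.Agent.Mult.E62

open Cfsg.Agent.CG

theorem glue {F : ℕ → ℕ → Bool} (hF : ∀ {lo c e : ℕ}, F lo c = true → F (lo + c) e = true → F lo (c + e) = true)
    {c e n : ℕ} (h1 : F 0 c = true) (h2 : F c e = true) (h3 : c + e = n) : F 0 n = true :=
  h3 ▸ hF h1 ((zero_add c).symm ▸ h2)

theorem chkH : D2.chkHead = true := p2c0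
theorem chkV0 : D2.chkVars 0 484 = true := glue (F := D2.chkVars) (c := 372) (e := 112) Dat.chkVars_append p2c1 p2c2 rfl
theorem chkV1 : D2.chkVars 0 557 = true := glue (F := D2.chkVars) (c := 484) (e := 73) Dat.chkVars_append chkV0 p2c3 rfl
theorem chkV2 : D2.chkVars 0 605 = true := glue (F := D2.chkVars) (c := 557) (e := 48) Dat.chkVars_append chkV1 p2c4 rfl
theorem chkV3 : D2.chkVars 0 676 = true := glue (F := D2.chkVars) (c := 605) (e := 71) Dat.chkVars_append chkV2 p2c5 rfl
theorem chkV4 : D2.chkVars 0 742 = true := glue (F := D2.chkVars) (c := 676) (e := 66) Dat.chkVars_append chkV3 p2c6 rfl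
theorem chkV5 : D2.chkVars 0 784 = true := glue (F := D2.chkVars) (c := 742) (e := 42) Dat.chkVars_append chkV4 p2c7 rfl
theorem chkV6 : D2.chkVars 0 825 = true := glue (F := D2.chkVars) (c := 784) (e := 41) Dat.chkVars_append chkV5 p2c8 rfl
theorem chkV7 : D2.chkVars 0 867 = true := glue (F := D2.chkVars) (c := 825) (e := 42) Dat.chkVars_append chkV6 p2c9 rfl
theorem chkV8 : D2.chkVars 0 906 = true := glue (F := D2.chkVars) (c := 867) (e := 39) Dat.chkVars_append chkV7 p2c10 rfl
theorem chkV9 : D2.chkVars 0 945 = true := glue (F := D2.chkVars) (c := 906) (e := 39) Dat.chkVars_append chkV8 p2c11 rfl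
theorem chkV10 : D2.chkVars 0 984 = true := glue (F := D2.chkVars) (c := 945) (e := 39) Dat.chkVars_append chkV9 p2c12 rfl
theorem chkV11 : D2.chkVars 0 1020 = true := glue (F := D2.chkVars) (c := 984) (e := 36) Dat.chkVars_append chkV10 p2c13 rfl
theorem chkV12 : D2.chkVars 0 1056 = true := glue (F := D2.chkVars) (c := 1020) (e := 36) Dat.chkVars_append chkV11 p2c14 rfl
theorem chkV13 : D2.chkVars 0 1093 = true := glue (F := D2.chkVars) (c := 1056) (e := 37) Dat.chkVars_append chkV12 p2c15 rfl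
theorem chkV14 : D2.chkVars 0 1129 = true := glue (F := D2.chkVars) (c := 1093) (e := 36) Dat.chkVars_append chkV13 p2c16 rfl
theorem chkV15 : D2.chkVars 0 1162 = true := glue (F := D2.chkVars) (c := 1129) (e := 33) Dat.chkVars_append chkV14 p2c17 rfl
theorem chkV16 : D2.chkVars 0 1194 = true := glue (F := D2.chkVars) (c := 1162) (e := 32) Dat.chkVars_append chkV15 p2c18 rfl
theorem chkV17 : D2.chkVars 0 1225 = true := glue (F := D2.chkVars) (c := 1194) (e := 31) Dat.chkVars_append chkV16 p2c19 rfl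
theorem chkV18 : D2.chkVars 0 1251 = true := glue (F := D2.chkVars) (c := 1225) (e := 26) Dat.chkVars_append chkV17 p2c20 rfl
theorem chkV19 : D2.chkVars 0 1281 = true := glue (F := D2.chkVars) (c := 1251) (e := 30) Dat.chkVars_append chkV18 p2c21 rfl
theorem chkV20 : D2.chkVars 0 1310 = true := glue (F := D2.chkVars) (c := 1281) (e := 29) Dat.chkVars_append chkV19 p2c22 rfl
theorem chkV21 : D2.chkVars 0 1338 = true := glue (F := D2.chkVars) (c := 1310) (e := 28) Dat.chkVars_append chkV20 p2c23 rfl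
theorem chkV22 : D2.chkVars 0 1364 = true := glue (F := D2.chkVars) (c := 1338) (e := 26) Dat.chkVars_append chkV21 p2c24 rfl
theorem chkV23 : D2.chkVars 0 1480 = true := glue (F := D2.chkVars) (c := 1364) (e := 116) Dat.chkVars_append chkV22 p2c25 rfl
theorem chkV : D2.chkVars 0 D2.NV = true := (show 1480 = D2.NV from rfl) ▸ chkV23
theorem chkR0 : D2.chkRhos 0 34 = true := glue (F := D2.chkRhos) (c := 28) (e := 6) Dat.chkRhos_append p2c26 p2c27 rfl
theorem chkR : D2.chkRhos 0 D2.r = true := (show 34 = D2.r from rfl) ▸ chkR0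
theorem chkE0 : D2.chkEnts 0 1358 = true := glue (F := D2.chkEnts) (c := 949) (e := 409) Dat.chkEnts_append p2c28 p2c29 rfl
theorem chkE1 : D2.chkEnts 0 1369 = true := glue (F := D2.chkEnts) (c := 1358) (e := 11) Dat.chkEnts_append chkE0 p2c30 rfl
theorem chkE : D2.chkEnts 0 (D2.n1 * D2.n1) = true := (show 1369 = (D2.n1 * D2.n1) from rfl) ▸ chkE1

end Cfsg.Agent.Mult.E62
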