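import Cfsg.Agent.Lib.Mult.Glue

set_option autoImplicit false
set_option maxRecDepth 100000
set_option Elab.async false

namespace Cfsg.Agent.Mult.E62

open Cfsg.Agent.CG

noncomputable def p2T : ℕ := 0x240180000900600002401800009006000024018000090060000240180000900600002401800009006000024018000090060000240180000900600002401800009006000024018000090060000240180000900600002401800009006000024018000090060000240180000900600002401800009006000024018000090060000240180000900600002401800009006000024018000090060000000000000000000002301800008c0600002301800008c0600002301800008c0600002301800008c0600002301800008c0600002301800008c0600002301800008c0600002301800008c0600002301800008c0600002301800008c0600002301800008c0600002301800008c0600002301800008c0600002301800008c0600092303000008c0600002301800008c0600002301800008c060000230180000000000000000000000000000022018000088060000220180000880600002201800008806000022018000088060000220180000880600002201800008806000022018000088060000220180000880600002201800008806000022018000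08806000022018000088060009220300000880600002201800008806000022018000088060008e2030000088060000220180000880600002201800008806000000000000000000000000000000000000002101800008406000021018000084060000210180000840600002101800008406000021018000084060000210180000840600002101800008406000021018000084060000210180024840c00002101800008406000021018000084060000210180023840c00002101800008406000021018000084060008a10300022840c00002101800008406000021018000000000000000000000000000000000000000000000020018000080060000200180000800600002001800008006000020018000080060000200180000800600002001800008006000020018000080060000200180024800c00002001800008006000020018000080060000200180023800c00002001800008006000020018000080060000200180022800c000020018000080060000200180000800600000000000000000000000000000000000000000000000000000001f01800007c0600001f01800007c0600001f01800007c0600001f01800007c0600001f01800247c0c00001f01800007c0600001f01800007c0600001f01800007c060008df03000007c0600001f01800007c0600001f01800007c0600001f01800007c06000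01f01800007c068a181f06008a07c1200001f01800007c0600001f0180000000000000000000000000000000000000000000000000000000000000001e0180000780600001e0180000780600001e0180000780600001e0180000780600001e0180000780600091e0300000780600001e0180000780600001e0180000780600001e0180023780c00001e0180000780600001e0180000780600089e0300000780600001e0180000780600001e0180860781200085e030000078060000000000000000000000000000000000000000000000000000000000000000000000001d0180000740600001d0180000740600001d0180000740600001d0180000740600091d0300000740600001d0180000740600001d0180000740600001d0180023740c00001d0180000740600001d0180000740600089d0300000740600001d0180000740600001d0180000740600085d0300020740c00001d018000000000000000000000000000000000000000000000000000000000000000000000000000000001c0180000700600001c0180024700c00001c0180000700600001c0180000700600001c0180000700600001c0180000700600001c0180022700c00001c0180000700600001c01808e1701202381c0480000700600001c018000070060007dc0300000700600001c0180000700600001c0180000700600000000000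0000000000000000000000000000000000000000000000000000000000000000000000000000001b01800006c0600001b01800006c0600091b03000006c0600001b01800006c0600001b01800236c0c00001b01800006c0600001b01800006c0600001b01800006c0600001b01800006c0600081b03008606c1200001b01800006c0600075b030001e6c0c0007db030001f6c0c00001b01800000000000000000000000000000000000000000000000000000000000000000000000000000000000000000000000001a0180000680600091a0300000680600001a0180000680600001a0180023680c00001a0180000680600001a0180000680600001a0180000680600001a0180000680600001a0180021680c00081a0300000680600001a018079d681200075a030001f680c00001a018000068060000000000000000000000000000000000000000000000000000000000000000000000000000000000000000000000000000000008d9030000064060000190180022640c00001901800006406000019018000064060248590480920641200001901800006406000019018001f640c0000190180000640600001901800006406000719030000064060000190180000640600001901800006406000019018000000000000000000000000000000000000000000000000000000000000000000000000000000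0000000000000000000000000000000000001801800006006000018018000060060000180180000600600001801800006006000018018000060060000180180000600600001801800006006000018018089e60120227580480000600600001801800006006000018019f6da601801f698048000060060000000000000000000000000000000000000000000000000000000000000000000000000000000000000000000000000000000000000000000000000001701800005c0600001701800005c0600001701800225c0c00001701800005c0600001701800205c0c02181704800005c0601e757048001e5c0c00001701800005c06000017018091b5c1200001701800005c06000717030001c5c0c0000170180000000000000000000000000000000000000000000000000000000000000000000000000000000000000000000000000000000000000000000000000000000000016018000058060000160180022580c00001601800005806000016018000058060008560300020580c000016018001e580c000756030000058060000160180000580602469604800005806000016018001c580c0000160180000580600000000000000000000000000000000000000000000000000000000000000000000000000000000000000000000000000000000000000000000000000000000000000000000150180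0005406000015018000054060000150180000540600001501808de54120237550480000540600001501800005406000015018000054060000150180018540c00001501800005406717595060071654120000150180000000000000000000000000000000000000000000000000000000000000000000000000000000000000000000000000000000000000000000000000000000000000000000000000000140180020500c00085403000005006000014018091e5012000014018001f500c000014018001a500c0006d4030000050060007140300000500600001401805d650120005d4030000050060000140180000500600000000000000000000000000000000000000000000000000000000000000000000000000000000000000000000000000000000000000000000000000000000000000000000000000000000002181304800204c0c00001301800004c06024753048001f4c0c00001301800004c0601b693048001a4c0c00071303000004c0600001301800004c060005d303000164c0c00001301800004c0600001301800000000000000000000000000000000000000000000000000000000000000000000000000000000000000000000000000000000000000000000000000000000000000000000000000000000000000000000012018079d481200079203000004806000012018000048060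236d2048000048060000120180000480600001201808974812000012018000048060000120180019480c0006520300000480600000000000000000000000000000000000000000000000000000000000000000000000000000000000000000000000000000000000000000000000000000000000000000000000000000000000000000000000000000791030001d440c0000110180000440600001101808da4412000011018000044060000110180000440602259104800004406000011018000044060006510300000440600001101800000000000000000000000000000000000000000000000000000000000000000000000000000000000000000000000000000000000000000000000000000000000000000000000000000000000000000000000000000000000000100180000400600069003006da4012000010018000040060006100300016400c017590048000040060000100180015400c0005500300013400c00051003000004006000000000000000000000000000000000000000000000000000000000000000000000000000000000000000000000000000000000000000000000000000000000000000000000000000000000000000000000000000000000000000000000000f018001b3c0c00068f03000003c0600060f03000003c060005cf03000163c0c00000f01800003c0600054f030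00003c060144cf04800133c0c00000f01800000000000000000000000000000000000000000000000000000000000000000000000000000000000000000000000000000000000000000000000000000000000000000000000000000000000000000000000000000000000000000000000000000000e0180000380600060e0300000380600000e0180000380600000e0180015380c00000e0180000380600000e0199491381801944e0480000380600000000000000000000000000000000000000000000000000000000000000000000000000000000000000000000000000000000000000000000000000000000000000000000000000000000000000000000000000000000000000000000000000000000000000000d0180000340600000d0180000340600000d0180019340c01f50d0480000340601244d0480012340c00000d0180000340600000d0180000000000000000000000000000000000000000000000000000000000000000000000000000000000000000000000000000000000000000000000000000000000000000000000000000000000000000000000000000000000000000000000000000000000000000000000000c0180000300600000c0180019300c00000c01807d3301200000c0180012300c00044c0300000300600000c018000030060000000000000000000000000000000000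000000000000000000000000000000000000000000000000000000000000000000000000000000000000000000000000000000000000000000000000000000000000000000000000000000000000000000000000000000000000000000000000b01800002c0601c50b04807132c1200000b01800002c065503cb060054f2c1200000b01800002c0600000b018000000000000000000000000000000000000000000000000000000000000000000000000000000000000000000000000000000000000000000000000000000000000000000000000000000000000000000000000000000000000000000000000000000000000000000000000000000000000000000a0180011280c01244a0480610281200000a018000e280c00038a030000c280c00034a0300000280600000000000000000000000000000000000000000000000000000000000000000000000000000000000000000000000000000000000000000000000000000000000000000000000000000000000000000000000000000000000000000000000000000000000000000000000000000000000000000000000004890300011240c0183c9048000024060003890300000240600d309048000c240c00000901800000000000000000000000000000000000000000000000000000000000000000000000000000000000000000000000000000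000000000000000000000000000000000000000000000000000000000000000000000000000000000000000000000000000000000000000000000000000000000000000000000000000000801800002006019348048000020060000080180000200600000801800002006000000000000000000000000000000000000000000000000000000000000000000000000000000000000000000000000000000000000000000000000000000000000000000000000000000000000000000000000000000000000000000000000000000000000000000000000000000000000000000000000000000000000000000007018064c1c1200000701800001c0600000701800001c06000007018000000000000000000000000000000000000000000000000000000000000000000000000000000000000000000000000000000000000000000000000000000000000000000000000000000000000000000000000000000000000000000000000000000000000000000000000000000000000000000000000000000000000000000000000002c60300000180600000601800001806000006018000018060000000000000000000000000000000000000000000000000000000000000000000000000000000000000000000000000000000000000000000000000000000000000000000000000000000000000000000000000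000000000000000000000000000000000000000000000000000000000000000000000000000000000000000000000000000000038a245060038914120000050180000140600000501800000000000000000000000000000000000000000000000000000000000000000000000000000000000000000000000000000000000000000000000000000000000000000000000000000000000000000000000000000000000000000000000000000000000000000000000000000000000000000000000000000000000000000000000000000000000000000000040180008100c0081c40480000100600000000000000000000000000000000000000000000000000000000000000000000000000000000000000000000000000000000000000000000000000000000000000000000000000000000000000000000000000000000000000000000000000000000000000000000000000000000000000000000000000000000000000000000000000000000000000000000000000081c304800070c0c00000301800000000000000000000000000000000000000000000000000000000000000000000000000000000000000000000000000000000000000000000000000000000000000000000000000000000000000000000000000000000000000000000000000000000000000000000000000000000000000000000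00000000000000000000000000000000000000000000000000000000000000000020180000080600000000000000000000000000000000000000000000000000000000000000000000000000000000000000000000000000000000000000000000000000000000000000000000000000000000000000000000000000000000000000000000000000000000000000000000000000000000000000000000000000000000000000000000000000000000000000000000000000000000000000000000000101800000000000000000000000000000000000000000000000000000000000000000000000000000000000000000000000000000000000000000000000000000000000000000000000000000000000000000000000000000000000000000000000000000000000000000000000000000000000000000000000000000000000000000000000000000000000000000000000000000000000000000000000000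
noncomputable def p2q1 : ℕ := 0x2400002300002200002100002000001f00001e00001d00001c00001b00001a00001900001800001700001600001500001400001300001200001100001000000f00000e00000d00000c00000b00000a00000900000800000700000600000000000400000300000200000100000000002400002300002200002100002000001f00001e00001d00001c00001b00001a00001900001800001700001600001500001400001300001200001100001000000f00000e00000d00000c00000b00000a00000900000800000700000000000500000400000300000200000100000000002400002300002200002100002000001f00001e00001d00001c00001b00001a00001900001800001700001600001500001400001300001200001100001000000f00000e00000d00000c00000b00000a000009000008000007000006000005000000000000000002000001000000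
noncomputable def p2q2 : ℕ := 0x2400002200002300002100002000001c00001e00001d00001f00001700001600001900001500001b00001a00001800001400001300001200001100001000000f00000e00000800000700000600010300000300000d00000c00000b00000000028900000900000200000100000000002300002400002200002100002000001f00001e00001d00001900001b00001a00001c00001800001200001100000e00000d00000c00001700001600000a00000900001500001400001300000500001000000f00000800000700000000000b00000400000300000200000100000000002400002300001f00086000002000002200001b00001a00001c00001e00001d00001900001800001400001300000b00001700001600000d00000c00040f00000f00000500001200001100001500028900000900008100000100000600000e000000000000000207000007000000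
noncomputable def p2NF : Tr ℕ := (.node (.node (.node (.node (.node (.node (.node (.node (.node (.node (.node (.leaf 0x0) (.leaf 0x0)) (.leaf 0x0)) (.node (.node (.leaf 0x0) (.leaf 0x0)) (.leaf 0x0))) (.node (.node (.node (.leaf 0x0) (.leaf 0x0)) (.leaf 0x40000000000000000000000000000000000000)) (.node (.node (.leaf 0x0) (.leaf 0x0)) (.leaf 0x1000000000000003000600080010000000000000008000)))) (.node (.node (.node (.node (.leaf 0x0) (.leaf 0x0)) (.leaf 0x0)) (.node (.node (.leaf 0x0) (.leaf 0x0)) (.leaf 0x8000))) (.node (.node (.node (.leaf 0x0) (.leaf 0x10000000000000000000)) (.leaf 0x0)) (.node (.node (.leaf 0xc0010001000000000000000000000000000000000000000000000000000000000000000000000000000000000000000000) (.leaf 0x0)) (.leaf 0x0))))) (.node (.node (.node (.node (.node (.leaf 0x0) (.leaf 0x0)) (.leaf 0x0)) (.node (.node (.leaf 0x0) (.leaf 0x0)) (.leaf 0x0))) (.node (.node (.node (.leaf 0x0) (.leaf 0x0)) (.leaf 0x200000000000000000000000000000000000000000000000000000000)) (.node (.node (.leaf 0x40000000000000000000000000000000000000000000000000000000000000000000000000000000000000000000000000000000000000000)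 (.leaf 0x0)) (.leaf 0x0)))) (.node (.node (.node (.node (.leaf 0x0) (.leaf 0x0)) (.leaf 0x100000000000000000000000000000000000000000000000000004000c0000000000000000000000000000000000000000000000000000000000000000000)) (.node (.node (.leaf 0x0) (.leaf 0x0)) (.leaf 0x10000000c0000000000000000000000))) (.node (.node (.node (.leaf 0x40000000000000000000000000000000000000000000000000000000000000000000000000000000000000000000000000000000000000000000000000000000000000000000000000000000000000000000000000000000000000000000000000000000000000000000000000) (.leaf 0x0)) (.leaf 0x0)) (.node (.leaf 0x0) (.leaf 0x0)))))) (.node (.node (.node (.node (.node (.node (.leaf 0x0) (.leaf 0x0)) (.leaf 0x0)) (.node (.node (.leaf 0x0) (.leaf 0x0)) (.leaf 0x0))) (.node (.node (.node (.leaf 0x0) (.leaf 0x1)) (.leaf 0x0)) (.node (.node (.leaf 0x0) (.leaf 0x18000000000000000000000000000000000000200000000000000000000000001000600000000000000000000018000)) (.leaf 0x400000000000000000000000000000000000000000000000000000000000000000000000))))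 (.node (.node (.node (.node (.leaf 0x0) (.leaf 0x0)) (.leaf 0x0)) (.node (.node (.leaf 0x200000000000000000000000000000000000000000000000000000000000000000000000000000000000000000000000000000000000000000000000000000000000) (.leaf 0x0)) (.leaf 0x0))) (.node (.node (.node (.leaf 0x0) (.leaf 0x0)) (.leaf 0x8000000000000000000)) (.node (.leaf 0x0) (.leaf 0x0))))) (.node (.node (.node (.node (.node (.leaf 0x0) (.leaf 0x0)) (.leaf 0xc0000000000000000000000000000000000000000000000000000000000000000000000000000000000000000000000000000000000000000)) (.node (.node (.leaf 0x10000000600000018000000000000000000000000000000000000000000000000000000000000000000000000000000000000000000000000000000000000000000000000000000000000000000) (.leaf 0x0)) (.leaf 0x200000000000))) (.node (.node (.node (.leaf 0x0) (.leaf 0x1)) (.leaf 0x0)) (.node (.node (.leaf 0x0) (.leaf 0x80000000000c0000000000000000000000000000000018000000200080010001000000000000000000000000000000000000000000000000000000008000000000000000000000000000000000))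 (.leaf 0x0)))) (.node (.node (.node (.node (.leaf 0x40000000000000000000000000000000000000000000000000000000000000000000000000000000000000000000000000000000000000000000000000000000000000000000000) (.leaf 0x0)) (.leaf 0x0)) (.node (.node (.leaf 0x0) (.leaf 0x0)) (.leaf 0x0))) (.node (.node (.node (.leaf 0x0) (.leaf 0x0)) (.leaf 0x1000000000000000)) (.node (.leaf 0x0) (.leaf 0x0))))))) (.node (.node (.node (.node (.node (.node (.node (.leaf 0x0) (.leaf 0x0)) (.leaf 0x2000c0010001000000000000000000000000000000000000000000000000000000008000000000000000000000000000000000)) (.node (.node (.leaf 0x1000000000000000000000000000000000000000000000000000000000000000000000000000000000000000000000000000000000) (.leaf 0x0)) (.leaf 0x0))) (.node (.node (.node (.leaf 0x0) (.leaf 0x0)) (.leaf 0x0)) (.node (.node (.leaf 0x0) (.leaf 0xc0000000000000000000001000000040008000000000000000000000000000000000000000000000000000600080000001000000000000000000000000000000000000000000000000000000000000)) (.leaf 0x0)))) (.node (.node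 (.node (.node (.leaf 0x0) (.leaf 0x0)) (.leaf 0x0)) (.node (.node (.leaf 0x0) (.leaf 0x0)) (.leaf 0x0))) (.node (.node (.node (.leaf 0x0) (.leaf 0x8000)) (.leaf 0x400000000006000400080000000000c0000000)) (.node (.leaf 0x2000000000000000000000000000000000000000000000000000000000000000000000010000000000000000000000000000000000) (.leaf 0x0))))) (.node (.node (.node (.node (.node (.leaf 0x0) (.leaf 0x400000000000)) (.leaf 0x0)) (.node (.node (.leaf 0x0) (.leaf 0x0)) (.leaf 0x0))) (.node (.node (.node (.leaf 0x0) (.leaf 0x0)) (.leaf 0x0)) (.node (.node (.leaf 0x0) (.leaf 0x0)) (.leaf 0x1000000000000000)))) (.node (.node (.node (.node (.leaf 0x0) (.leaf 0x0)) (.leaf 0x0)) (.node (.node (.leaf 0x0) (.leaf 0x0)) (.leaf 0x0))) (.node (.node (.node (.leaf 0x0) (.leaf 0x0)) (.leaf 0x200040000000000000000000002000200040008000000000000010000)) (.node (.leaf 0x8000000000000000000000000000000000) (.leaf 0x1000000000000000)))))) (.node (.node (.node (.node (.node (.node (.leaf 0x0) (.leaf 0x0)) (.leaf 0x0)) (.node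 (.node (.leaf 0x0) (.leaf 0x0)) (.leaf 0x0))) (.node (.node (.node (.leaf 0x8000000000000000000000000000000000000000000000000000000000000000000000000000000000000000000000000000000000000000000000000000000000000000000000000000000000000000000000000000000000000000000000000000000) (.leaf 0x0)) (.leaf 0x0)) (.node (.node (.leaf 0x0) (.leaf 0x0)) (.leaf 0x0)))) (.node (.node (.node (.node (.leaf 0x0) (.leaf 0x1000000000000000000000000000000)) (.leaf 0x400000000000000000000010000000c0018000000000000018000)) (.node (.node (.leaf 0x0) (.leaf 0x2)) (.leaf 0x80000000000000000000000000000000000000000c0000001))) (.node (.node (.node (.leaf 0x0) (.leaf 0x0)) (.leaf 0x0)) (.node (.leaf 0x0) (.leaf 0x0))))) (.node (.node (.node (.node (.node (.leaf 0x0) (.leaf 0x0)) (.leaf 0x80000000000000000030002000000000000000000c0000000)) (.node (.node (.leaf 0x0) (.leaf 0x0)) (.leaf 0x10000000000000000002000c0018000000000000000000))) (.node (.node (.node (.leaf 0x0) (.leaf 0x0)) (.leaf 0x0)) (.node (.node (.leaf 0x0) (.leaf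 0x0)) (.leaf 0x0)))) (.node (.node (.node (.node (.leaf 0x0) (.leaf 0x0)) (.leaf 0x0)) (.node (.node (.leaf 0x8000000000000000000000000000000000000000000000000000000000000000000000000000000000000000000000000000000000000000000000000000) (.leaf 0x0)) (.leaf 0x0))) (.node (.node (.node (.leaf 0x0) (.leaf 0x0)) (.leaf 0x10000000000000000000000000000000000000000000000000000000000000000000400000000000)) (.node (.leaf 0x0) (.leaf 0x40000000)))))))) (.node (.node (.node (.node (.node (.node (.node (.node (.leaf 0x0) (.leaf 0x0)) (.leaf 0x0)) (.node (.node (.leaf 0x80018000000000000000000000000000000000000000000000000000000000000000000000000000000000000000000000000000000000000000000000000000000000000000000) (.leaf 0x0)) (.leaf 0x0))) (.node (.node (.node (.leaf 0x0) (.leaf 0x0)) (.leaf 0x200000000000000000000000000000000000000000)) (.node (.node (.leaf 0x0) (.leaf 0x0)) (.leaf 0x0)))) (.node (.node (.node (.node (.leaf 0x0) (.leaf 0x0)) (.leaf 0x0)) (.node (.node (.leaf 0x0) (.leaf 0x0)) (.leaf 0x80000000000000000000000000000000000000000000000010000)))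 (.node (.node (.node (.leaf 0x0) (.leaf 0x0)) (.leaf 0x0)) (.node (.node (.leaf 0x8000000000000000000000000000000000) (.leaf 0x0)) (.leaf 0x1000000000000000))))) (.node (.node (.node (.node (.node (.leaf 0x0) (.leaf 0x1)) (.leaf 0x0)) (.node (.node (.leaf 0x0) (.leaf 0x0)) (.leaf 0x0))) (.node (.node (.node (.leaf 0x0) (.leaf 0x8000)) (.leaf 0x0)) (.node (.node (.leaf 0x0) (.leaf 0x0)) (.leaf 0x0)))) (.node (.node (.node (.node (.leaf 0x0) (.leaf 0x0)) (.leaf 0x0)) (.node (.node (.leaf 0x0) (.leaf 0x0)) (.leaf 0x8000))) (.node (.node (.node (.leaf 0x8000000000000000000000000000000000000000000000000000000000000000000000000000000000000000000000000000000000000000000000000000000000000000000000000000000000000000000000000000000000000000000000000000000000000000000000000000000000000) (.leaf 0x0)) (.leaf 0x0)) (.node (.leaf 0x8000000000000000000000000000000000000000000000000000000000000000000000000000000000000000000000) (.leaf 0x0)))))) (.node (.node (.node (.node (.node (.node (.leaf 0x0) (.leaf 0x0)) (.leaf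 0x400000000000000000000000000000000000000000000000000000000000000000000000000000000000000000000000000000000000000000000)) (.node (.node (.leaf 0x0) (.leaf 0x0)) (.leaf 0xc0000000000000000000000000000000000000000000000000000000000000000000))) (.node (.node (.node (.leaf 0x0) (.leaf 0x0)) (.leaf 0x0)) (.node (.node (.leaf 0x0) (.leaf 0x0)) (.leaf 0x0)))) (.node (.node (.node (.node (.leaf 0x0) (.leaf 0x0)) (.leaf 0x40000000000000000000003000000000000000000000000000000000000000000000000000000000000)) (.node (.node (.leaf 0x1000000000000000000000000000000000000000000000000000000000000000000000000000000000000000000) (.leaf 0x0)) (.leaf 0x200000000000))) (.node (.node (.node (.leaf 0x0) (.leaf 0x1)) (.leaf 0x0)) (.node (.leaf 0x0) (.leaf 0x40000000))))) (.node (.node (.node (.node (.node (.leaf 0x0) (.leaf 0x0)) (.leaf 0x3000000000000000000000000000000000000000000000000000000000000)) (.node (.node (.leaf 0x0) (.leaf 0x0)) (.leaf 0x0))) (.node (.node (.node (.leaf 0x0) (.leaf 0x0)) (.leaf 0x0)) (.node (.node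 (.leaf 0x0) (.leaf 0x0)) (.leaf 0x0)))) (.node (.node (.node (.node (.leaf 0x0) (.leaf 0x2000000000000000000000000000000000000000000000)) (.leaf 0x0)) (.node (.node (.leaf 0x1000200000000003000000000000000000000000000000000000000000000000000000018000000000000000000000000000000000) (.leaf 0x0)) (.leaf 0x0))) (.node (.node (.node (.leaf 0x0) (.leaf 0x0)) (.leaf 0x0)) (.node (.leaf 0x0) (.leaf 0x0))))))) (.node (.node (.node (.node (.node (.node (.node (.leaf 0x0) (.leaf 0x0)) (.leaf 0x40000000000000000000000000000000000000000000000000000000000000000000000000000000000)) (.node (.node (.leaf 0x0) (.leaf 0x10000)) (.leaf 0x0))) (.node (.node (.node (.leaf 0x0) (.leaf 0x0)) (.leaf 0x0)) (.node (.node (.leaf 0x0) (.leaf 0x200000000000000600000000000000000000000000000600040000000000000000008003000000000000000000000000000000000000000000000000000000000000)) (.leaf 0x0)))) (.node (.node (.node (.node (.leaf 0x1000000000000000000000000000000000000000000000000000000000000000000000000000000000000000000000000000000000000000000000000000000000000000000000000000000000000000000000000000000000000)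 (.leaf 0x0)) (.leaf 0x0)) (.node (.node (.leaf 0x0) (.leaf 0x0)) (.leaf 0x0))) (.node (.node (.node (.leaf 0x0) (.leaf 0x0)) (.leaf 0x1000000000000000)) (.node (.leaf 0x0) (.leaf 0x0))))) (.node (.node (.node (.node (.node (.leaf 0x0) (.leaf 0x0)) (.leaf 0x10000000000000000000000000000000000000000000000002000c0018003000000000000000)) (.node (.node (.leaf 0x80008000000000000000000000000000000000000000000000000000000000000000000000000000000000000000000000000000000000000000000000000000000000000000000) (.leaf 0x0)) (.leaf 0x0))) (.node (.node (.node (.leaf 0x0) (.leaf 0x0)) (.leaf 0x10000000000000000000000000000000000000000000000000000000000000000000000000000000000000000000000)) (.node (.node (.leaf 0x0) (.leaf 0x0)) (.leaf 0x2000c0000000000000000000001)))) (.node (.node (.node (.node (.leaf 0x0) (.leaf 0x0)) (.leaf 0x0)) (.node (.node (.leaf 0x0) (.leaf 0x0)) (.leaf 0x0))) (.node (.node (.node (.leaf 0x0) (.leaf 0x0)) (.leaf 0x0)) (.node (.leaf 0x0) (.leaf 0x0)))))) (.node (.node (.node (.node (.node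 (.node (.leaf 0x0) (.leaf 0x0)) (.leaf 0x0)) (.node (.node (.leaf 0x0) (.leaf 0x0)) (.leaf 0x0))) (.node (.node (.node (.leaf 0x0) (.leaf 0x0)) (.leaf 0x8000000000000000000000000000000000)) (.node (.node (.leaf 0x18002000000000000000000000000000000000000000000000000000000000000000000000000000000000000000000000000000000000000000000000000000000000000000000000000000000000000000000000) (.leaf 0x0)) (.leaf 0x0)))) (.node (.node (.node (.node (.leaf 0x0) (.leaf 0x0)) (.leaf 0x8000000000040000001000600000000000000000080000000)) (.node (.node (.leaf 0x0) (.leaf 0x0)) (.leaf 0x1000000000000000000000000000000000000000000000))) (.node (.node (.node (.leaf 0x0) (.leaf 0x0)) (.leaf 0x0)) (.node (.leaf 0x0) (.leaf 0x80000000000000000000000000000080000000))))) (.node (.node (.node (.node (.node (.leaf 0x0) (.leaf 0x0)) (.leaf 0x0)) (.node (.node (.leaf 0x0) (.leaf 0x0)) (.leaf 0x0))) (.node (.node (.node (.leaf 0x1000000000000000000000000000000000000000000000000000000000000000000000000000000000000000000000000000000000000000000000000000000000000000)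 (.leaf 0x0)) (.leaf 0x0)) (.node (.node (.leaf 0x0) (.leaf 0x0)) (.leaf 0x0)))) (.node (.node (.node (.node (.leaf 0x0) (.leaf 0x0)) (.leaf 0x0)) (.node (.node (.leaf 0x200000000000000000000000000000000000000000000000000000000000000000000000000000000000000000000000000000000000000000000000000000000000000000000000000000000000000000) (.leaf 0x0)) (.leaf 0x8001000000000000000000000000000000000000000000000000000000000000))) (.node (.node (.node (.leaf 0x0) (.leaf 0x0)) (.leaf 0x0)) (.node (.leaf 0x0) (.leaf 0x0))))))))) (.node (.node (.node (.node (.node (.node (.node (.node (.node (.leaf 0x0) (.leaf 0x10000000000000000000000000000000000000000080000000)) (.leaf 0x0)) (.node (.node (.leaf 0x0) (.leaf 0x0)) (.leaf 0x0))) (.node (.node (.node (.leaf 0x0) (.leaf 0x0)) (.leaf 0x0)) (.node (.node (.leaf 0x0) (.leaf 0x0)) (.leaf 0x0)))) (.node (.node (.node (.node (.leaf 0x0) (.leaf 0x0)) (.leaf 0x0)) (.node (.node (.leaf 0x0) (.leaf 0x0)) (.leaf 0x0))) (.node (.node (.node (.leaf 0x0) (.leaf 0x0)) (.leaf 0x40000000000000000000000000600040008000000000000018000))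 (.node (.node (.leaf 0x1000000000000000000000000000000000000000000000000000000000000000000000000000) (.leaf 0x0)) (.leaf 0x0))))) (.node (.node (.node (.node (.node (.leaf 0x0) (.leaf 0x0)) (.leaf 0x0)) (.node (.node (.leaf 0x0) (.leaf 0x0)) (.leaf 0x0))) (.node (.node (.node (.leaf 0x0) (.leaf 0x0)) (.leaf 0x0)) (.node (.node (.leaf 0x8000000000000000000000000000000000000000000000000000000000000000000000000000000000000000000000000000000000000000000000000000000000000000000000000000000000000000000000000) (.leaf 0x0)) (.leaf 0x0)))) (.node (.node (.node (.node (.leaf 0x0) (.leaf 0x40000000)) (.leaf 0x0)) (.node (.node (.leaf 0x0) (.leaf 0x0)) (.leaf 0x0))) (.node (.node (.node (.leaf 0x1000000000000000000000000000000000000000000000000000000000000000000000000000000000000000000000000000000000000000000000000000000000000000000000000000000000000000000000000000000000000000000000000000000000000000000000000000000000) (.leaf 0x0)) (.leaf 0x0)) (.node (.leaf 0x0) (.leaf 0x0)))))) (.node (.node (.node (.node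 (.node (.node (.leaf 0x0) (.leaf 0x0)) (.leaf 0x0)) (.node (.node (.leaf 0x0) (.leaf 0x0)) (.leaf 0x1000000000000000000000000000000000000000000000000000000000000))) (.node (.node (.node (.leaf 0x0) (.leaf 0x0)) (.leaf 0x0)) (.node (.node (.leaf 0x0) (.leaf 0x0)) (.leaf 0x0)))) (.node (.node (.node (.node (.leaf 0x0) (.leaf 0x0)) (.leaf 0x1000000000000000000000000000000000000000000001000600000000003000000000000000)) (.node (.node (.leaf 0x200000000000000000000000000000000000000000000200000000000000000000000000000000000000000000000000000000000000000000000000000000000000) (.leaf 0x0)) (.leaf 0x0))) (.node (.node (.node (.leaf 0x0) (.leaf 0x0)) (.leaf 0x2000000000000000000000000000000000000000000000000000000000002000000000000000)) (.node (.leaf 0x0) (.leaf 0x0))))) (.node (.node (.node (.node (.node (.leaf 0x0) (.leaf 0x8000000000000000000)) (.leaf 0x400000000000000000000000002000c0018000000000000018000)) (.node (.node (.leaf 0x0) (.leaf 0x80000000)) (.leaf 0x0))) (.node (.node (.node (.leaf 0x0) (.leaf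 0x0)) (.leaf 0x0)) (.node (.node (.leaf 0x0) (.leaf 0x0)) (.leaf 0x8000)))) (.node (.node (.node (.node (.leaf 0x8000000000000000000000000000000000000000000000000000000000000000000000000000000000000000000000000000000000000000000000000000000000000000000000000000000000000000000000000000000000000000) (.leaf 0x0)) (.leaf 0x0)) (.node (.node (.leaf 0x0) (.leaf 0x0)) (.leaf 0x0))) (.node (.node (.node (.leaf 0x0) (.leaf 0x0)) (.leaf 0x1000000000000001000200080010000000000000000001)) (.node (.leaf 0x0) (.leaf 0x0))))))) (.node (.node (.node (.node (.node (.node (.node (.leaf 0x0) (.leaf 0x0)) (.leaf 0x0)) (.node (.node (.leaf 0x8000000000000000000000000000000000000000000000000000000000000000000000000000000000000000000000000000000000000000000000000000000000000000000) (.leaf 0x0)) (.leaf 0x40000000000000000000000000000000000000000200000018000))) (.node (.node (.node (.leaf 0x0) (.leaf 0x0)) (.leaf 0x0)) (.node (.node (.leaf 0x0) (.leaf 0x0)) (.leaf 0x0)))) (.node (.node (.node (.node (.leaf 0x0) (.leaf 0x0))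 (.leaf 0x0)) (.node (.node (.leaf 0x0) (.leaf 0x0)) (.leaf 0x0))) (.node (.node (.node (.leaf 0x0) (.leaf 0x0)) (.leaf 0x0)) (.node (.leaf 0x0) (.leaf 0x40000000000000000000000))))) (.node (.node (.node (.node (.node (.leaf 0x0) (.leaf 0x0)) (.leaf 0x0)) (.node (.node (.leaf 0x80008000000000000000000000000000000000000000000000000000000000000000000000000000000000000000000000000000000000000000000000000000000000000000000) (.leaf 0x0)) (.leaf 0x0))) (.node (.node (.node (.leaf 0x0) (.leaf 0x40000000)) (.leaf 0x1000200000000001000200080010000000000000000000)) (.node (.node (.leaf 0x0) (.leaf 0xc00000000000000000000000000000000000010000000c0008001000000000000000000000000000000000000000000000000000000018000000000000000000000000000000000)) (.leaf 0x0)))) (.node (.node (.node (.node (.leaf 0x0) (.leaf 0x0)) (.leaf 0x0)) (.node (.node (.leaf 0x0) (.leaf 0x0)) (.leaf 0x400000000000000000000000000000000000000000000000000010000))) (.node (.node (.node (.leaf 0x0) (.leaf 0x0)) (.leaf 0x0)) (.node (.leaf 0x0) (.leaf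 0x1000000000000000000000000000000000000000000000)))))) (.node (.node (.node (.node (.node (.node (.leaf 0x0) (.leaf 0x8000)) (.leaf 0x0)) (.node (.node (.leaf 0x0) (.leaf 0x0)) (.leaf 0x0))) (.node (.node (.node (.leaf 0x0) (.leaf 0x2000000000000000)) (.leaf 0x0)) (.node (.node (.leaf 0x1000000040000000000000000000000000000040000000000600080000003000000000000000000000000000000000000000000000000000000000000) (.leaf 0x0)) (.leaf 0x0)))) (.node (.node (.node (.node (.leaf 0x0) (.leaf 0x0)) (.leaf 0x8000000000000000000000000000000000000000000000000000000000000000)) (.node (.node (.leaf 0x0) (.leaf 0x40000000000000000000000000000000000000000000000000000000000000000000000000000000000000000000000000000000000000000000000000000000000000000000000000000000000000000000000000000000000000000000000000000000000000000000000000000000000000000)) (.leaf 0x0))) (.node (.node (.node (.leaf 0x0) (.leaf 0x0)) (.leaf 0x0)) (.node (.leaf 0x0) (.leaf 0x0))))) (.node (.node (.node (.node (.node (.leaf 0x0) (.leaf 0x0)) (.leaf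 0x20000000000000000000000000000000000000000000000004000c0000000000000000000000000000000000000000000000000000000000000000000)) (.node (.node (.leaf 0x0) (.leaf 0x0)) (.leaf 0x8000000000000000000))) (.node (.node (.node (.leaf 0x40000000000000000000000000000000000000000000000000000000000000000000000000000000000000000000000000000000000000000000000000000000000000000000000000000000000000000000000000000000000000000000000000000000000) (.leaf 0x0)) (.leaf 0x0)) (.node (.node (.leaf 0x0) (.leaf 0x0)) (.leaf 0x0)))) (.node (.node (.node (.node (.leaf 0x0) (.leaf 0x0)) (.leaf 0x0)) (.node (.node (.leaf 0x200000000000000000000000000000000000000000000000000000000000000000000000000000000000000000000000000000) (.leaf 0x0)) (.leaf 0x8000000000040000000000000000000001000000080000000))) (.node (.node (.node (.leaf 0x0) (.leaf 0x0)) (.leaf 0x0)) (.node (.leaf 0x0) (.leaf 0x0)))))))) (.node (.node (.node (.node (.node (.node (.node (.node (.leaf 0x0) (.leaf 0x0)) (.leaf 0x0)) (.node (.node (.leaf 0x80018000000000000000000000000000000000000000000000000000000000000000000000000000000000000000000000000000000000000000000000000000000000000000000)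 (.leaf 0x0)) (.leaf 0x0))) (.node (.node (.node (.leaf 0x0) (.leaf 0x0)) (.leaf 0x2000000000000000000000000000000000000000000000000000000000000000000000000000000000000000000)) (.node (.node (.leaf 0x0) (.leaf 0x0)) (.leaf 0x0)))) (.node (.node (.node (.node (.leaf 0x0) (.leaf 0x0)) (.leaf 0x0)) (.node (.node (.leaf 0x0) (.leaf 0x0)) (.leaf 0x0))) (.node (.node (.node (.leaf 0x0) (.leaf 0x0)) (.leaf 0x0)) (.node (.node (.leaf 0x0) (.leaf 0x0)) (.leaf 0x10002000000000000002000c0018000000000000000000))))) (.node (.node (.node (.node (.node (.leaf 0x40000000000000000000000000000000000000000000000000000000000000000000000000000000000000000000000000000000000000000000000000000000000000000000000000000000000000000000000000000) (.leaf 0x0)) (.leaf 0x0)) (.node (.node (.leaf 0x0) (.leaf 0x0)) (.leaf 0x0))) (.node (.node (.node (.leaf 0x0) (.leaf 0x0)) (.leaf 0x0)) (.node (.node (.leaf 0x0) (.leaf 0x8000000000000000000000000000000000000000000000000000000000000000000000000000000000000000000000000000000000000000000000000000000000000000000000000000000000000000000000000000000000000000000000000000000000000000000000000000000000000000000000000000))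 (.leaf 0x0)))) (.node (.node (.node (.node (.leaf 0x0) (.leaf 0x0)) (.leaf 0x0)) (.node (.node (.leaf 0x0) (.leaf 0x0)) (.leaf 0x0))) (.node (.node (.node (.leaf 0x0) (.leaf 0x80000000000000000000000)) (.leaf 0x0)) (.node (.leaf 0x0) (.leaf 0x0)))))) (.node (.node (.node (.node (.node (.node (.leaf 0x0) (.leaf 0x1000000000018000000000040000000)) (.leaf 0x0)) (.node (.node (.leaf 0x0) (.leaf 0x0)) (.leaf 0x1000000000000001000200080010000000000040000000))) (.node (.node (.node (.leaf 0x200000000000000000000000000000000000000000000000000000000000000000000000000000000000000000000000000000000000000000000000000000000000000000000000000000000000000000000000000000000000000000000000) (.leaf 0x0)) (.leaf 0x0)) (.node (.node (.leaf 0x0) (.leaf 0x0)) (.leaf 0x0)))) (.node (.node (.node (.node (.leaf 0x0) (.leaf 0x0)) (.leaf 0x0)) (.node (.node (.leaf 0x2000600000000000000400000000000000000000000000000000000000000000000000000000000000000000000000000000000000000000000000000000000000000000) (.leaf 0x0)) (.leaf 0x0)))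 (.node (.node (.node (.leaf 0x0) (.leaf 0x0)) (.leaf 0x0)) (.node (.leaf 0x0) (.leaf 0x0))))) (.node (.node (.node (.node (.node (.leaf 0x0) (.leaf 0x0)) (.leaf 0x0)) (.node (.node (.leaf 0x0) (.leaf 0x0)) (.leaf 0x0))) (.node (.node (.node (.leaf 0x0) (.leaf 0x0)) (.leaf 0x0)) (.node (.node (.leaf 0x0) (.leaf 0x0)) (.leaf 0x10000000000000000000000000000000000)))) (.node (.node (.node (.node (.leaf 0x0) (.leaf 0x0)) (.leaf 0x0)) (.node (.node (.leaf 0x600080000000000000000000002000200000000000000200000000000000000000000000000600000000000000000000000000000000000000000000000000000000000000000000000000000000000000) (.leaf 0x0)) (.leaf 0x0))) (.node (.node (.node (.leaf 0x0) (.leaf 0x0)) (.leaf 0x10000000c0000000000000000000000)) (.node (.leaf 0x0) (.leaf 0x0))))))) (.node (.node (.node (.node (.node (.node (.node (.leaf 0x0) (.leaf 0x0)) (.leaf 0x0)) (.node (.node (.leaf 0x0) (.leaf 0x0)) (.leaf 0x2000c0000000000000000000000000000000000000000000000000000000000000000000))) (.node (.node (.node (.leaf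 0x0) (.leaf 0x0)) (.leaf 0x0)) (.node (.node (.leaf 0x0) (.leaf 0x0)) (.leaf 0x0)))) (.node (.node (.node (.node (.leaf 0x0) (.leaf 0x400000000000000000000000000000000000000000)) (.leaf 0x0)) (.node (.node (.leaf 0x10000000c0008001000000000000000000000000000000000000000000000000000000018000000000000000000000000000000000) (.leaf 0x0)) (.leaf 0x0))) (.node (.node (.node (.leaf 0x0) (.leaf 0x40000000)) (.leaf 0x0)) (.node (.leaf 0x0) (.leaf 0x0))))) (.node (.node (.node (.node (.node (.leaf 0x0) (.leaf 0x0)) (.leaf 0x3000000000000000000000000000000000000000000000000000000000000)) (.node (.node (.leaf 0x0) (.leaf 0x0)) (.leaf 0x0))) (.node (.node (.node (.leaf 0x0) (.leaf 0x0)) (.leaf 0x0)) (.node (.node (.leaf 0x0) (.leaf 0x200000000000000000000000000000000000000000000000000000000000000000000000000000000000000000000000000000000000000000000000000000000000000000000000000000000000000000000000000000000000000000000000000000000000000000000000000000000000000000000000000000000000)) (.leaf 0x0)))) (.node (.node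 (.node (.node (.leaf 0x0) (.leaf 0x0)) (.leaf 0x0)) (.node (.node (.leaf 0x0) (.leaf 0x180030000000000000000000000000000000000000000000000000000000000000000000000000000000000c0000000000000000000000000000000000000000000000000000000000000000000000000000000000)) (.leaf 0x0))) (.node (.node (.node (.leaf 0x0) (.leaf 0x0)) (.leaf 0x400000030000000400080000000000c0000000)) (.node (.leaf 0x10000000000000000000000000000000000000000000000000000000000000000000000000010000000000000000000000000000000000) (.leaf 0x200000000000000000000000000)))))) (.node (.node (.node (.node (.node (.node (.leaf 0x0) (.leaf 0x0)) (.leaf 0x0)) (.node (.node (.leaf 0x0) (.leaf 0x0)) (.leaf 0x80000000000000000000000000000000000000000000000000000000000000000000000000000000000))) (.node (.node (.node (.leaf 0x0) (.leaf 0x0)) (.leaf 0x0)) (.node (.node (.leaf 0x1000000000000000000000000000000000000000000000000000000000003000200000000000) (.leaf 0x0)) (.leaf 0x0)))) (.node (.node (.node (.node (.leaf 0x0) (.leaf 0x0)) (.leaf 0x8000000000000000000000000000000000000000000000000000000000000000))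 (.node (.node (.leaf 0x0) (.leaf 0x0)) (.leaf 0x0))) (.node (.node (.node (.leaf 0x0) (.leaf 0x0)) (.leaf 0x0)) (.node (.leaf 0x0) (.leaf 0x0))))) (.node (.node (.node (.node (.node (.leaf 0x0) (.leaf 0x40000000)) (.leaf 0x0)) (.node (.node (.leaf 0x0) (.leaf 0x0)) (.leaf 0x0))) (.node (.node (.node (.leaf 0x1000000000000000000000000000000000000000000000000000000000000000000000000000000000000000000000000000000000000000000000000000000000000000000000000000000000000000000000000000000000000000000000000000000000000000000) (.leaf 0x0)) (.leaf 0x0)) (.node (.node (.leaf 0x0) (.leaf 0x0)) (.leaf 0x0)))) (.node (.node (.node (.node (.leaf 0x0) (.leaf 0x2000c0000000000000000008000)) (.leaf 0x0)) (.node (.node (.leaf 0x0) (.leaf 0x0)) (.leaf 0x40000000000000000000000000000000000000000000000000000000000000000000))) (.node (.node (.node (.leaf 0x0) (.leaf 0x0)) (.leaf 0x0)) (.node (.leaf 0x0) (.leaf 0x0)))))))))) (.node (.node (.node (.node (.node (.node (.node (.node (.node (.node (.leaf 0x0) (.leaf 0x0)) (.leaf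 0x0)) (.node (.node (.leaf 0x0) (.leaf 0x0)) (.leaf 0x0))) (.node (.node (.node (.leaf 0x0) (.leaf 0x0)) (.leaf 0x0)) (.node (.node (.leaf 0x0) (.leaf 0x0)) (.leaf 0x0)))) (.node (.node (.node (.node (.leaf 0x0) (.leaf 0x0)) (.leaf 0x0)) (.node (.node (.leaf 0x0) (.leaf 0x0)) (.leaf 0x0))) (.node (.node (.node (.leaf 0x0) (.leaf 0x0)) (.leaf 0x0)) (.node (.node (.leaf 0x0) (.leaf 0x0)) (.leaf 0x0))))) (.node (.node (.node (.node (.node (.leaf 0x0) (.leaf 0x0)) (.leaf 0x0)) (.node (.node (.leaf 0x0) (.leaf 0x0)) (.leaf 0x0))) (.node (.node (.node (.leaf 0x0) (.leaf 0x0)) (.leaf 0x0)) (.node (.node (.leaf 0x40000000000000000000000000000000000000000000000000000000000000000000000000000000000000000000000000000000000000000000000000000000) (.leaf 0x0)) (.leaf 0x0)))) (.node (.node (.node (.node (.leaf 0x0) (.leaf 0x0)) (.leaf 0x0)) (.node (.node (.leaf 0x0) (.leaf 0x0)) (.leaf 0x0))) (.node (.node (.node (.leaf 0x200000000000000000000000000000000000000000000000000000000000000000000000000000000000000000000000000000000000000000000000000000000000000000000000000000000000000000000000000000000000000000000000000000000000000000000000000000)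 (.leaf 0x0)) (.leaf 0x0)) (.node (.leaf 0x0) (.leaf 0x0)))))) (.node (.node (.node (.node (.node (.node (.leaf 0x0) (.leaf 0x1000000000000000)) (.leaf 0x200000000000000000000000000000000000000000000000000000000000000000000000)) (.node (.node (.leaf 0x0) (.leaf 0x0)) (.leaf 0x0))) (.node (.node (.node (.leaf 0x0) (.leaf 0x0)) (.leaf 0x0)) (.node (.node (.leaf 0x0) (.leaf 0x10000000c0008001000000000000003000000000000000000000000000000000000000018000000600040008001000000000000000)) (.leaf 0x0)))) (.node (.node (.node (.node (.leaf 0x0) (.leaf 0x0)) (.leaf 0x80000000000000000000000000000000000000000000000010000000c0018000000600000000000)) (.node (.node (.leaf 0x200000000000000000000000000000000000000000000000000000000000000000000000000000000000000000000000000000000000000000000) (.leaf 0x0)) (.leaf 0x0))) (.node (.node (.node (.leaf 0x0) (.leaf 0x0)) (.leaf 0x200000000000000000000000000)) (.node (.leaf 0x0) (.leaf 0x0))))) (.node (.node (.node (.node (.node (.leaf 0x0) (.leaf 0x0)) (.leaf 0x0)) (.node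 (.node (.leaf 0x0) (.leaf 0x0)) (.leaf 0x0))) (.node (.node (.node (.leaf 0x0) (.leaf 0x0)) (.leaf 0x0)) (.node (.node (.leaf 0x0) (.leaf 0x0)) (.leaf 0x0)))) (.node (.node (.node (.node (.leaf 0x8000000000000000000000000000000000000000000000000000000000000000000000000000000000000000000000000000000000000000000000000000000000000000000000000000000000) (.leaf 0x0)) (.leaf 0x0)) (.node (.node (.leaf 0x0) (.leaf 0x0)) (.leaf 0x0))) (.node (.node (.node (.leaf 0x0) (.leaf 0x0)) (.leaf 0x0)) (.node (.leaf 0x0) (.leaf 0x0))))))) (.node (.node (.node (.node (.node (.node (.node (.leaf 0x0) (.leaf 0x0)) (.leaf 0x0)) (.node (.node (.leaf 0x0) (.leaf 0x0)) (.leaf 0x0))) (.node (.node (.node (.leaf 0x0) (.leaf 0x40000000)) (.leaf 0x0)) (.node (.node (.leaf 0x0) (.leaf 0x0)) (.leaf 0x0)))) (.node (.node (.node (.node (.leaf 0x0) (.leaf 0x0)) (.leaf 0x0)) (.node (.node (.leaf 0x0) (.leaf 0x0)) (.leaf 0x0))) (.node (.node (.node (.leaf 0x0) (.leaf 0x8000)) (.leaf 0x8000000000040000003000200000000000000000080000000))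 (.node (.leaf 0x0) (.leaf 0x8000000000000000000))))) (.node (.node (.node (.node (.node (.leaf 0x0) (.leaf 0x0)) (.leaf 0x0)) (.node (.node (.leaf 0x200000000000000000000000000000000000000000000000000000000000000000000000000000000000000000000000000000000000000000000000000000000000000000000000000) (.leaf 0x0)) (.leaf 0x0))) (.node (.node (.node (.leaf 0x0) (.leaf 0x0)) (.leaf 0x1000000000000000000000000000000000000000000000)) (.node (.node (.leaf 0x0) (.leaf 0x0)) (.leaf 0x0)))) (.node (.node (.node (.node (.leaf 0x0) (.leaf 0x1)) (.leaf 0x0)) (.node (.node (.leaf 0x0) (.leaf 0x0)) (.leaf 0x0))) (.node (.node (.node (.leaf 0x0) (.leaf 0x0)) (.leaf 0x0)) (.node (.leaf 0x0) (.leaf 0x1000000000000000)))))) (.node (.node (.node (.node (.node (.node (.leaf 0x0) (.leaf 0x0)) (.leaf 0x0)) (.node (.node (.leaf 0x0) (.leaf 0x0)) (.leaf 0x0))) (.node (.node (.node (.leaf 0x0) (.leaf 0x0)) (.leaf 0x0)) (.node (.node (.leaf 0x0) (.leaf 0x0)) (.leaf 0x0)))) (.node (.node (.node (.node (.leaf 0x0) (.leaf 0x0))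 (.leaf 0x200040018003000000000000000000000000000000000000000000000000000000000000)) (.node (.node (.leaf 0x0) (.leaf 0x0)) (.leaf 0x0))) (.node (.node (.node (.leaf 0x0) (.leaf 0x0)) (.leaf 0x0)) (.node (.leaf 0x0) (.leaf 0x1))))) (.node (.node (.node (.node (.node (.leaf 0x0) (.leaf 0x8000)) (.leaf 0x1000000000000000000000000000000000000000000000000000000000000)) (.node (.node (.leaf 0x0) (.leaf 0x0)) (.leaf 0x0))) (.node (.node (.node (.leaf 0x0) (.leaf 0x0)) (.leaf 0x0)) (.node (.node (.leaf 0x0) (.leaf 0x0)) (.leaf 0x0)))) (.node (.node (.node (.node (.leaf 0x0) (.leaf 0x0)) (.leaf 0x0)) (.node (.node (.leaf 0x40000000000000000000000000000000000000000000000000000000000000000000000000000000000000000000000000) (.leaf 0x0)) (.leaf 0x400000000000000000000010000000c0000000))) (.node (.node (.node (.leaf 0x0) (.leaf 0x0)) (.leaf 0x0)) (.node (.leaf 0x0) (.leaf 0x0)))))))) (.node (.node (.node (.node (.node (.node (.node (.node (.leaf 0x0) (.leaf 0x0)) (.leaf 0x0)) (.node (.node (.leaf 0x200080018000000000000000000000000000000000000000000000000000000000000000000000000000000000000000000000000000000000000000000000000000000000000000000)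 (.leaf 0x0)) (.leaf 0x0))) (.node (.node (.node (.leaf 0x0) (.leaf 0x0)) (.leaf 0x10000000000000000002000c0018000000000000000000)) (.node (.node (.leaf 0x0) (.leaf 0x0)) (.leaf 0x0)))) (.node (.node (.node (.node (.leaf 0x0) (.leaf 0x1)) (.leaf 0x0)) (.node (.node (.leaf 0x0) (.leaf 0x0)) (.leaf 0x0))) (.node (.node (.node (.leaf 0x0) (.leaf 0x0)) (.leaf 0x0)) (.node (.node (.leaf 0x0) (.leaf 0x0)) (.leaf 0x200000000000000000000000000000000000000000))))) (.node (.node (.node (.node (.node (.leaf 0x0) (.leaf 0x0)) (.leaf 0x0)) (.node (.node (.leaf 0x0) (.leaf 0x0)) (.leaf 0x0))) (.node (.node (.node (.leaf 0x0) (.leaf 0x0)) (.leaf 0x8000000000000000000000000000000000000000000000000)) (.node (.node (.leaf 0x0) (.leaf 0x0)) (.leaf 0x0)))) (.node (.node (.node (.node (.leaf 0x0) (.leaf 0x0)) (.leaf 0x0)) (.node (.node (.leaf 0x0) (.leaf 0x0)) (.leaf 0x0))) (.node (.node (.node (.leaf 0x0) (.leaf 0x0)) (.leaf 0x0)) (.node (.leaf 0x600000008002000000000000000000000000000000000000000000000000000000000000000000000000000000000000000000)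 (.leaf 0x0)))))) (.node (.node (.node (.node (.node (.node (.leaf 0x0) (.leaf 0x2000c0000000000000040000000)) (.leaf 0x0)) (.node (.node (.leaf 0x0) (.leaf 0x1)) (.leaf 0x2000000000000002000c0018000000000040000000))) (.node (.node (.node (.leaf 0x40000000000000000000000000000000000000000000000000000000000000000000000000000000000000000000000000000000000000000000000000000000000000000000000000000000000000000000000000000000000000000000) (.leaf 0x0)) (.leaf 0x0)) (.node (.node (.leaf 0x0) (.leaf 0x0)) (.leaf 0x0)))) (.node (.node (.node (.node (.leaf 0x0) (.leaf 0x0)) (.leaf 0xc0000000000000000000000000000000000000000000000000000000000000000000000000000000000000000000000000000000000000000000000000000000)) (.node (.node (.leaf 0x8000000000000000000000000000000000000000000000000000000000000000000000000000000000000000000000) (.leaf 0x0)) (.leaf 0x200000000000))) (.node (.node (.node (.leaf 0x0) (.leaf 0x0)) (.leaf 0x0)) (.node (.leaf 0x0) (.leaf 0x0))))) (.node (.node (.node (.node (.node (.leaf 0x0) (.leaf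 0x0)) (.leaf 0x200080018003000000000000000000000000000000000000000000000000000000000000)) (.node (.node (.leaf 0x0) (.leaf 0x0)) (.leaf 0x0))) (.node (.node (.node (.leaf 0x0) (.leaf 0x0)) (.leaf 0x0)) (.node (.node (.leaf 0x0) (.leaf 0x0)) (.leaf 0x40000000)))) (.node (.node (.node (.node (.leaf 0x0) (.leaf 0x0)) (.leaf 0x0)) (.node (.node (.leaf 0x600000000000000200000000000000000000000000000200000000000000000000000000000000000000000000000000000000000000000000000000000000000000) (.leaf 0x0)) (.leaf 0x0))) (.node (.node (.node (.leaf 0x0) (.leaf 0x1)) (.leaf 0x40000000000000000000000)) (.node (.leaf 0x0) (.leaf 0x0))))))) (.node (.node (.node (.node (.node (.node (.node (.leaf 0x0) (.leaf 0x0)) (.leaf 0x0)) (.node (.node (.leaf 0x0) (.leaf 0x0)) (.leaf 0x0))) (.node (.node (.node (.leaf 0x0) (.leaf 0x0)) (.leaf 0x0)) (.node (.node (.leaf 0x0) (.leaf 0x0)) (.leaf 0x0)))) (.node (.node (.node (.node (.leaf 0x0) (.leaf 0x0)) (.leaf 0x0)) (.node (.node (.leaf 0x0) (.leaf 0x0)) (.leaf 0x0))) (.node (.node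 (.node (.leaf 0x0) (.leaf 0x0)) (.leaf 0x2000000000000002000c0018000000000000000001)) (.node (.leaf 0x0) (.leaf 0x0))))) (.node (.node (.node (.node (.node (.leaf 0x0) (.leaf 0x0)) (.leaf 0x80010000000000000000000000000000000000000000000030004000c0018003000600000000000)) (.node (.node (.leaf 0x8000000000000000000000000000000000000000000000000000000000000000000000000000000000000000000000000000000000000) (.leaf 0x0)) (.leaf 0x0))) (.node (.node (.node (.leaf 0x0) (.leaf 0x0)) (.leaf 0x0)) (.node (.node (.leaf 0x0) (.leaf 0x0)) (.leaf 0x1000000000018000000000000000001)))) (.node (.node (.node (.node (.leaf 0x0) (.leaf 0x0)) (.leaf 0x0)) (.node (.node (.leaf 0x0) (.leaf 0x0)) (.leaf 0x0))) (.node (.node (.node (.leaf 0x0) (.leaf 0x0)) (.leaf 0x80000000000000000030002000000000000000000c0000000)) (.node (.leaf 0x0) (.leaf 0x0)))))) (.node (.node (.node (.node (.node (.node (.leaf 0x0) (.leaf 0x0)) (.leaf 0x0)) (.node (.node (.leaf 0x0) (.leaf 0x0)) (.leaf 0x0))) (.node (.node (.node (.leaf 0x0) (.leaf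 0x0)) (.leaf 0x0)) (.node (.node (.leaf 0x18002000000000000000000000000000000000000000000000000000000000000000000000000000000000000000000000000000000000000000000000000000000000000000000000000000000000000000000000) (.leaf 0x0)) (.leaf 0x0)))) (.node (.node (.node (.node (.leaf 0x0) (.leaf 0x8000)) (.leaf 0x400000010000000c00180000000000c0000000)) (.node (.node (.leaf 0x0) (.leaf 0x0)) (.leaf 0x1000200000000003000600080010000000000000000000))) (.node (.node (.node (.leaf 0x0) (.leaf 0x0)) (.leaf 0x0)) (.node (.leaf 0x0) (.leaf 0x0))))) (.node (.node (.node (.node (.node (.leaf 0x0) (.leaf 0x0)) (.leaf 0x0)) (.node (.node (.leaf 0x0) (.leaf 0x0)) (.leaf 0x0))) (.node (.node (.node (.leaf 0x40000000000000000000000000000000000000000000000000000000000000000000000000000000000000000000000000000000000000000000000000000000000000000000000000000000000000) (.leaf 0x0)) (.leaf 0x0)) (.node (.node (.leaf 0x0) (.leaf 0x0)) (.leaf 0x0)))) (.node (.node (.node (.node (.leaf 0x0) (.leaf 0x0)) (.leaf 0x0)) (.node (.node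 (.leaf 0x0) (.leaf 0x0)) (.leaf 0x0))) (.node (.node (.node (.leaf 0x0) (.leaf 0x0)) (.leaf 0x0)) (.node (.leaf 0x0) (.leaf 0x1))))))))) (.node (.node (.node (.node (.node (.node (.node (.node (.node (.leaf 0x0) (.leaf 0x0)) (.leaf 0x0)) (.node (.node (.leaf 0x0) (.leaf 0x0)) (.leaf 0x0))) (.node (.node (.node (.leaf 0x0) (.leaf 0x0)) (.leaf 0x0)) (.node (.node (.leaf 0x0) (.leaf 0x0)) (.leaf 0x0)))) (.node (.node (.node (.node (.leaf 0x0) (.leaf 0x0)) (.leaf 0x0)) (.node (.node (.leaf 0x0) (.leaf 0x0)) (.leaf 0x0))) (.node (.node (.node (.leaf 0x0) (.leaf 0x0)) (.leaf 0x2000000000000000000000000010000000c0018000000000000018000)) (.node (.node (.leaf 0x0) (.leaf 0x0)) (.leaf 0x0))))) (.node (.node (.node (.node (.node (.leaf 0x0) (.leaf 0x0)) (.leaf 0x0)) (.node (.node (.leaf 0x0) (.leaf 0x0)) (.leaf 0x0))) (.node (.node (.node (.leaf 0x0) (.leaf 0x0)) (.leaf 0x0)) (.node (.node (.leaf 0x0) (.leaf 0x0)) (.leaf 0x200000000000)))) (.node (.node (.node (.node (.leaf 0x0) (.leaf 0x0)) (.leaf 0x0)) (.node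 (.node (.leaf 0x0) (.leaf 0x0)) (.leaf 0x0))) (.node (.node (.node (.leaf 0x1000000000000000000000000000000000000000000000000000000000000000000000000000000000000000000000000000000000000000000000000000000000000000000000000000000000000000000000) (.leaf 0x0)) (.leaf 0x0)) (.node (.leaf 0x0) (.leaf 0x0)))))) (.node (.node (.node (.node (.node (.node (.leaf 0x0) (.leaf 0x0)) (.leaf 0x0)) (.node (.node (.leaf 0x0) (.leaf 0x0)) (.leaf 0x18000000000000000000000000000000000000000000000000000000000000000))) (.node (.node (.node (.leaf 0x0) (.leaf 0x0)) (.leaf 0x0)) (.node (.node (.leaf 0x0) (.leaf 0x0)) (.leaf 0x0)))) (.node (.node (.node (.node (.leaf 0x0) (.leaf 0x0)) (.leaf 0x40000000000000000008003000000000000000000000000000000000000000000000000000000000000)) (.node (.node (.leaf 0x1000000000000000000000000000000000000000000000000000000000000000000000000000000000000000000000000000000000000000000000000) (.leaf 0x0)) (.leaf 0x0))) (.node (.node (.node (.leaf 0x0) (.leaf 0x0)) (.leaf 0x0)) (.node (.leaf 0x0)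 (.leaf 0x0))))) (.node (.node (.node (.node (.node (.leaf 0x0) (.leaf 0x200000018000000000000000000)) (.leaf 0x200000000000000000000000001000200080010000000000000018000)) (.node (.node (.leaf 0x0) (.leaf 0x0)) (.leaf 0x400000000000000000000000000000c0000001))) (.node (.node (.node (.leaf 0x0) (.leaf 0x0)) (.leaf 0x0)) (.node (.node (.leaf 0x0) (.leaf 0x0)) (.leaf 0x0)))) (.node (.node (.node (.node (.leaf 0x0) (.leaf 0x0)) (.leaf 0x0)) (.node (.node (.leaf 0x8000000200040018002000000000000000000000000000000000000000000000000000000018000000000000000000000000000000000) (.leaf 0x0)) (.leaf 0x0))) (.node (.node (.node (.leaf 0x0) (.leaf 0x0)) (.leaf 0x0)) (.node (.leaf 0x0) (.leaf 0x0))))))) (.node (.node (.node (.node (.node (.node (.node (.leaf 0x0) (.leaf 0x0)) (.leaf 0x600000000000000000000000000000000000000000000000000000000000000000000000000000000000000)) (.node (.node (.leaf 0x0) (.leaf 0x0)) (.leaf 0x200040000000000000000000002000000080010000000200000010000))) (.node (.node (.node (.leaf 0x0)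 (.leaf 0x0)) (.leaf 0x0)) (.node (.node (.leaf 0x0) (.leaf 0x0)) (.leaf 0x0)))) (.node (.node (.node (.node (.leaf 0x200000000000000000000000000000000000000000000000000000000000000000000000000000000000000000000000000000000000000000000000000000000000000000000000000000000000000000000000000000000) (.leaf 0x0)) (.leaf 0x0)) (.node (.node (.leaf 0x0) (.leaf 0x0)) (.leaf 0x0))) (.node (.node (.node (.leaf 0x0) (.leaf 0x0)) (.leaf 0x0)) (.node (.leaf 0x0) (.leaf 0x0))))) (.node (.node (.node (.node (.node (.leaf 0x0) (.leaf 0x0)) (.leaf 0x0)) (.node (.node (.leaf 0x1000000000000000000000000000000000000000000000000000000000000000000000000000000000000000000000000000000000000000000000000000000000000000000000000000000) (.leaf 0x0)) (.leaf 0x0))) (.node (.node (.node (.leaf 0x0) (.leaf 0x0)) (.leaf 0x0)) (.node (.node (.leaf 0x0) (.leaf 0x18000000000040000000000000000000000000000000008000000600080010003000000000000000000000000000000000000000000000000000000018000000000000000000000000000000000)) (.leaf 0x0))))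 (.node (.node (.node (.node (.leaf 0x0) (.leaf 0x0)) (.leaf 0x0)) (.node (.node (.leaf 0x0) (.leaf 0x0)) (.leaf 0x0))) (.node (.node (.node (.leaf 0x0) (.leaf 0x0)) (.leaf 0x200000000000)) (.node (.leaf 0x0) (.leaf 0x200000000003000600080010000000000000000000)))))) (.node (.node (.node (.node (.node (.node (.leaf 0x0) (.leaf 0x0)) (.leaf 0x0)) (.node (.node (.leaf 0x0) (.leaf 0x0)) (.leaf 0x0))) (.node (.node (.node (.leaf 0x0) (.leaf 0x0)) (.leaf 0x8000000000000000000000000000000000)) (.node (.node (.leaf 0x40008001000000040000000000000000000000000000040000000000400000000000000000000000000000000000000000000000000000000000000000000000) (.leaf 0x0)) (.leaf 0x0)))) (.node (.node (.node (.node (.leaf 0x0) (.leaf 0x0)) (.leaf 0x0)) (.node (.node (.leaf 0x0) (.leaf 0x200000000000000000000000000000000000000000000000000000000000000000000000000000000000000000000000000000000000000000000000000000000000000000000000000000000000000000000000000000000000000000000000000000000000000000000000000000000000000000000))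 (.leaf 0x0))) (.node (.node (.node (.leaf 0x0) (.leaf 0x0)) (.leaf 0x0)) (.node (.leaf 0x0) (.leaf 0x0))))) (.node (.node (.node (.node (.node (.leaf 0x0) (.leaf 0x0)) (.leaf 0x0)) (.node (.node (.leaf 0x0) (.leaf 0x0)) (.leaf 0x40000000000000000000000))) (.node (.node (.node (.leaf 0x200000000000000000000000000000000000000000000000000000000000000000000000000000000000000000000000000000000000000000000000000000000000000000000000000000000000000000000000000000000000000000000000000000000000000) (.leaf 0x0)) (.leaf 0x0)) (.node (.node (.leaf 0x0) (.leaf 0x0)) (.leaf 0x0)))) (.node (.node (.node (.node (.leaf 0x0) (.leaf 0x0)) (.leaf 0x40000000000000000000000000000000000000000000000000000)) (.node (.node (.leaf 0x200000000000000000000000000000000000000000000000000000000000000000000000000000000000000) (.leaf 0x0)) (.leaf 0x1000000000000000000000000000000000000000000000000000000000000))) (.node (.node (.node (.leaf 0x0) (.leaf 0x0)) (.leaf 0x0)) (.node (.leaf 0x0) (.leaf 0x0)))))))) (.node (.node (.node (.node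 (.node (.node (.node (.node (.leaf 0x0) (.leaf 0x0)) (.leaf 0x40018000000000000000000000000000000000000000000000000000000000008000000000000000000000000000000000)) (.node (.node (.leaf 0x1000000080018000000000000000000000000000000000000000000000000000000000000000000000000000000000000000000000000000000000000000000000000000000000000000000) (.leaf 0x0)) (.leaf 0x0))) (.node (.node (.node (.leaf 0x0) (.leaf 0x0)) (.leaf 0x0)) (.node (.node (.leaf 0x0) (.leaf 0x3000600000000001000200040000000000000000000000000200000000000000600080018000000000000000000000000000000000000000000000000000000000000000)) (.leaf 0x0)))) (.node (.node (.node (.node (.leaf 0x0) (.leaf 0x0)) (.leaf 0x0)) (.node (.node (.leaf 0x0) (.leaf 0x0)) (.leaf 0x0))) (.node (.node (.node (.leaf 0x0) (.leaf 0x0)) (.leaf 0x200000000000)) (.node (.node (.leaf 0x0) (.leaf 0x0)) (.leaf 0x0))))) (.node (.node (.node (.node (.node (.leaf 0x0) (.leaf 0x0)) (.leaf 0x0)) (.node (.node (.leaf 0x0) (.leaf 0x0)) (.leaf 0x0))) (.node (.node (.node (.leaf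 0x0) (.leaf 0x0)) (.leaf 0x0)) (.node (.node (.leaf 0x0) (.leaf 0x40000000000000000000000000000000000000000000000000000000000000000000000000000000000000000000000000000000000000000000000000000000000000000000000000000000000000000000000000000000000000000000000000000000000000000000000000000000000000000000000000000000)) (.leaf 0x0)))) (.node (.node (.node (.node (.leaf 0x0) (.leaf 0x0)) (.leaf 0x0)) (.node (.node (.leaf 0x0) (.leaf 0x1000000000000000000000000000000000000000000000000000000000000000000000000000000000000000000000000000000000000000000000000000000000000000000000000000000000000000000000000000000000000000000000000000000000000000000000000000000000000000000000000)) (.leaf 0x0))) (.node (.node (.node (.leaf 0x0) (.leaf 0x0)) (.leaf 0x200000000000000000000000001000600000000000000000000018000)) (.node (.leaf 0x8000000000000000000000000000000000000000000000000000000000000001000600000000000) (.leaf 0x0)))))) (.node (.node (.node (.node (.node (.node (.leaf 0x0) (.leaf 0x0)) (.leaf 0x0)) (.node (.node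 (.leaf 0x0) (.leaf 0x0)) (.leaf 0x0))) (.node (.node (.node (.leaf 0x1000000000000000000000000000000000000000000000000000000000000000000000000000000000000000000000000000000000000000000000000000000000000000000000000000000000000000000000000000000000000000000000000000) (.leaf 0x0)) (.leaf 0x0)) (.node (.node (.leaf 0x0) (.leaf 0x0)) (.leaf 0x0)))) (.node (.node (.node (.node (.leaf 0x0) (.leaf 0x40000000000000000000000)) (.leaf 0x200040000000000000000000003000200000000000000000000010000)) (.node (.node (.leaf 0x0) (.leaf 0x0)) (.leaf 0x0))) (.node (.node (.node (.leaf 0x0) (.leaf 0x0)) (.leaf 0x0)) (.node (.leaf 0x0) (.leaf 0x0))))) (.node (.node (.node (.node (.node (.leaf 0x0) (.leaf 0x0)) (.leaf 0x400000000002000c00180000000000c0000000)) (.node (.node (.leaf 0x0) (.leaf 0x0)) (.leaf 0x200000000000000000000000000000000000000000))) (.node (.node (.node (.leaf 0x0) (.leaf 0x0)) (.leaf 0x0)) (.node (.node (.leaf 0x0) (.leaf 0x0)) (.leaf 0x0)))) (.node (.node (.node (.node (.leaf 0x0) (.leaf 0x0)) (.leaf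 0x8000000000000000000000000000000000)) (.node (.node (.leaf 0x600080000000000000000000002000000000000000000000000000000000000000000000000600000000000000000000000000000000000000000000000000000000000000000000000000000000000000) (.leaf 0x0)) (.leaf 0x0))) (.node (.node (.node (.leaf 0x0) (.leaf 0x0)) (.leaf 0x0)) (.node (.leaf 0x0) (.leaf 0x0))))))) (.node (.node (.node (.node (.node (.node (.node (.leaf 0x0) (.leaf 0x0)) (.leaf 0x0)) (.node (.node (.leaf 0x0) (.leaf 0x0)) (.leaf 0x0))) (.node (.node (.node (.leaf 0x0) (.leaf 0x0)) (.leaf 0x0)) (.node (.node (.leaf 0x0) (.leaf 0x0)) (.leaf 0x0)))) (.node (.node (.node (.node (.leaf 0x0) (.leaf 0x0)) (.leaf 0x0)) (.node (.node (.leaf 0x8001000600040018000000000000000000000000000000000000000000000000000000000010000000000000000000000000000000000) (.leaf 0x0)) (.leaf 0x0))) (.node (.node (.node (.leaf 0x0) (.leaf 0x0)) (.leaf 0x0)) (.node (.leaf 0x0) (.leaf 0x0))))) (.node (.node (.node (.node (.node (.leaf 0x0) (.leaf 0x0)) (.leaf 0x40000000000000000018000000000000000000000000000000000000000000000000000000000000000))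 (.node (.node (.leaf 0x0) (.leaf 0x0)) (.leaf 0x0))) (.node (.node (.node (.leaf 0x0) (.leaf 0x0)) (.leaf 0x0)) (.node (.node (.leaf 0x0) (.leaf 0x40000000000000000000000000000000000003000000040018003000000000000000000000000000000000000000000000000000000008000000000000000000000000000000000)) (.leaf 0x0)))) (.node (.node (.node (.node (.leaf 0x0) (.leaf 0x0)) (.leaf 0x0)) (.node (.node (.leaf 0x0) (.leaf 0x0)) (.leaf 0x0))) (.node (.node (.node (.leaf 0x0) (.leaf 0x40000000)) (.leaf 0x0)) (.node (.leaf 0x0) (.leaf 0x10000000c0000000000000000000000)))))) (.node (.node (.node (.node (.node (.node (.leaf 0x0) (.leaf 0x0)) (.leaf 0x0)) (.node (.node (.leaf 0x0) (.leaf 0x0)) (.leaf 0x0))) (.node (.node (.node (.leaf 0x0) (.leaf 0x0)) (.leaf 0x0)) (.node (.node (.leaf 0x8000000000000000000000000000000000000000000000000000000000000000000000000000000) (.leaf 0x0)) (.leaf 0x0)))) (.node (.node (.node (.node (.leaf 0x0) (.leaf 0x0)) (.leaf 0x40000000000000000000000000000000000000000000000000000000000000000000))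 (.node (.node (.leaf 0x0) (.leaf 0x0)) (.leaf 0x600080010000000000000000000))) (.node (.node (.node (.leaf 0x8000000000000000000000000000000000000000000000000000000000000000000000000000000000000000000000000000000000000000000000000000000000000000000000000000000000000000000000000000000000000000000000000000000000000000000000) (.leaf 0x0)) (.leaf 0x0)) (.node (.leaf 0x0) (.leaf 0x0))))) (.node (.node (.node (.node (.node (.leaf 0x0) (.leaf 0x0)) (.leaf 0x0)) (.node (.node (.leaf 0x0) (.leaf 0x0)) (.leaf 0x0))) (.node (.node (.node (.leaf 0x0) (.leaf 0x0)) (.leaf 0x0)) (.node (.node (.leaf 0x1000000000000000000000000000000000000000000000000000000000000000000000000000000000000000000) (.leaf 0x0)) (.leaf 0x0)))) (.node (.node (.node (.node (.leaf 0x0) (.leaf 0x3000200040008000000000000008000)) (.leaf 0x0)) (.node (.node (.leaf 0x0) (.leaf 0x0)) (.leaf 0x200000000000000600040008000000000000008000))) (.node (.node (.node (.leaf 0x0) (.leaf 0x0)) (.leaf 0x0)) (.node (.leaf 0x0) (.leaf 0x0)))))))))))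
noncomputable def p2gv : ℕ := 0x2000000000000000000000000000000000000180010006000c00180000000000000000000000000000000000006000c00080020000000000000000000000000000000000000000000000000000000000000000000000000000000000000000000000000000000000000000000000000000000000000000000000000000000000000400000000000000000000000000000000180010000000000000000000000000000000000000000000000004000400180010000000000000000000000000000000000000000000000000000000000000000000000000000000000000000000000000000000000000000000000000000000000000000000000000000000000000000000000000000000000000000000000000000000000000000000000000800000000000000800000000000000000000000000000000000000000000c00180030000000000000000000000000000000000000000000000000000000000000000000000000000000000000000000000000000000000000000000000000000000000000000000000000000000000000000000000000000000000000000000000000000000000000000000002000400180020000000000000000000000000000000000000000000000000000000000030004000c0018000000000000000000000000000000000000000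0000000000000000000000000000000000000000000000000000000000000000000000000000000000000000000000000000000000000000000000000000000000000000400180030000000000000000000000000000000000000000000000000000000000000002000c0018000000000000000000000000000000000000000000000000000000000000000000000000000000000000080000000000000000000000000000000010003000200000000000000000000000000000000000000000000000000000000000000000000000000000000000000000000000000000000000000000000000000000000000000000000000000000000000000000000000000000000000000000000000000000000000000000000000000000000000000000000000000000000000000000000000000000000000000000000000000000000000000000000000000000000000000000000040018000000000000000000000000000000000000000000000000000000000000000000000000000000000000000000000000000000000000000000000000000000000000000000000000000000000000000000000000000000000000000000000040000000000000040000000000000000000000000000000000000000000000008000000000000000000000000000000000000000000000000000000000000000000000000000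0000000000000000010002000000000000000000000000000000000000000000000000000000000000000000000000000000000000000000000c00000000000000000000000000000000000000000000000000000000000000000000000000000000000000000000000000000000000000000000000000000000000000000000000000000000000000000000000000000000000000000000000000000000000000000000000000000000000000000000000000000000000000000000000000000800000000000000000000000000000000000000000000c0000001000000000000000000000000000000000000000000000000000000000000000000000000000000000000000000000000000000000000000000000000000000000000000000600000000000000000000000000000000000000000000000000000000000000000000000000000000000000000000000000000000000000000000000000000000000000000000000000000000000000000000000000000000000000000000000000000000000000000000000000000000000000000001000000000000000000000000000000000000000000000000000000000000000000000000000000000000000000000000000000000000600000000000000000000000000000000000000000000000000000000000000000000000000000000000000000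0000000000000000000000000000000000000000000002000000000000000000000000000000000000000000000000000000000000000000000000000000000000000000000000000000000000000000000000000000000000000000000000000000000000000000000000000000000000000000000000000000000000000000000000000000000000000000000000000000000000000000c0000000000000000000000000000000000000000000000000000000000000000000000000000000000000000000000000000000000000000000000000000000000000000000000000000000000000000000000000000000000000000000000000000000000000000000000000000000000000000000000000000000000000000000000000000000000000000000000000000000000000000000000000000000000000000000000000000000040000000000000000000000000000000000000000000000000003000000000000000000000000000000000000000000000000000000000000000000000000000000000000000000000000040000000000000000000000000000000000000000000000000000000000000000000000000000000000000000000000000000000000000000000000000000000000000000000000000000000000000000000000000000000000000000000000000000000000000000000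0000000000000000000000000000000000000000000000080000000000000000000000000000000000000000000000000000000000000000000000000000000000000000000000000000000000000000000000000000000000000000000000000000000000000000000000000000000000000000000000000000000000000000000000000000000000000000000000000000000000000000000000000000000000000000000000000000000000000000000000000000000000000000000000000000000000000000000000000000000000000000000002000000000000000000c0000000000000000000000000000000000000000000000000000000000000000000000000000000000000000000000000000600000000000000000000000000000000000000000000000000000000000000000000000000000000000000000000000000000000000040000000000000000000000000000000000000000000000000000000000000000000000000000000000000000000000000000000000000000000000000000000000000000000000000000000000000000000000000000000000000000000000000000000000000000000000000000000000000000000000000000000000000000000000000000000000000000000000000000000000000000000000000000000000000000000000002000400000000000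000000000000000000000000000000000000000000000000000000000000000000000000000000000000000000000000000000000000000000000000000000000000000000000000000000000000000000000000000000000000000000000000000000000000000000000000000000000000000000000000000400080010000000000000000000000000080000000000000000000000000000000000000000000000018000000000000000000000000000000000000200000000000000000000000002000600000000000000400000000000000000000000000000200000000000000000000000000000000000000000000000000000000000000000000000000000000000000000000000000000000400000000000000000000000000000000000000000000000000000003000000000000000000000000010000000600000000000000000000000000000000000000000000000000000000000000000000000000000000000000000000000000000000000000000000000000000000000000000000000000000400000000000000000000008000000000000000000000000000000000000000000000000000000000018000000000000000000000000000000000000000000000000000000000000000000000000000000000000000000000000000000000000000000000000000000000000000000000000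0000000000000000000000000000000000000000000000000000000000000000000000000000000000000000000000000000000000000000000006000800000000000000000000020000000800000000000000000000000000000000000000000000000000000000000c0000002000000000000000000000000000000000000000000000000000000000000000000000000000000000000000000000000000000000000000000000000000000000000000000000000000000000000000000000000000080008000000000000000000000000000000000000000080010002000000000000000000000000000000000000000000000000000000000000000000000000000000000000000000000000000000000000000000000000000000000000000000000000000000000000000000000000000000018002000000000000000000000000000000000000000000000000000000000000000000000000000000000000000000000000000000000000000000000000000000000000000000000000000000000000000000000000000000000002000000000000000000000000000001000000000000000000000000000000000000000000000000000000000000000000000000000000000000000000000400000000000000000000000000000000000000000000000000000000000000000000000000000000000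0000000000000000000000000000000000000000000000000000000000000000000000000000000000000000000000000000000000000000000000000000000000000000000002000800080000000000000000000000000000000000004000000000020000000000000000000000000000000000000000000000000000000000000000000000000000000000000000000000000000100000000000000000000000000000000000000000000000000000000000180000000000000000000000000000000000000000000000020006000000000000004000000000000000000000000000000000000000000000000000000000000000000000000000000000000000000000000000000000000000000000000000000000000000000000000000000000000000000000000000000000000000000000000000000000000000000000000000000000000000000000006000000000000000000800000000000000000000000004000000000000000000c00100000000000000000000000000000000000000000000000000000000000000000000000000000000000000800000000000000000000000000000000000000000000000000000000000c0000000000000000000000000000000008000000000000000000000000000000000000000000000000000000000000000000000000000000000000000000000000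0000000000000000000000000000000000000000000000000000000000000000000000000000000000000000000000000000000000000c0000000000000000000000000000000008000000000000000000000000000000000000000000000000000000000000000000000000000000000000000000000000000000000000000000000000000000000000000000000000000000000000000000000000000000000000000000000000000000000000000000000000000000000000000000000000000000000000000000000000000000000000000000000000000000000000000000000000000000000000000000000000000000000000000000000000000000000000000003000200000000000000000000000000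
noncomputable def p2mgv : ℕ := 0xfffffffffffffffffffffffffffffffffffffffffffffffffffffffffffffffffffffffffffffffffffffffffffffffffffffffffffffffffffffffffffffffffffffffffffffffffffffffffffffffffffffffffffffffffffffffffffffffffffffffffffffffffffffffffffffffffffffffffffffffffffffffffffffff
noncomputable def p2av : ℕ := 0x10000000000000000000000000000000000000000000000000000000000000000000000000000000000000000000000000000000000000000000000000000000000000000000000000000000000000000000000000000000000000000000000000000000000000000000000000000000000000000000000000000000400000000000000000000000000000000000000000000000000000000000000000000000000000000000000000000000000000000000000000000000000000000000000000000000000000000000000000000000000000000000000000000000000000000000000000000000000000000000000000000000000000000000000000080000000000000000000000000000000000000000000000000000000000000000000000000000000000000000000000000000000000000000000000000000000000000000000000000000000000000000000000000000000000000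000000000000000000000000000000000000000000000000000000400000000000000000000000000000000000000000000000000000000000000000000000000000000000000000000000000000000000000000000000000000000000000000000000000000000000000000000000000000000000000000000000000000000000000000000000000000000000000000000000000000010000000c00000000000000000000000000000000000000000000000000000000000000000000000000000000000000000000000000000000000000000000000000000000000000000000000000000000000000000000000000000000000000000000000000000000000000000000000000000000000000000000000000000000000000000000010000000000000000000000000000000000000000000000000000000000000000000000000000000000000000000000000000000000000000000000000000000000000000000000000000000000000000000000000000000000000000000000000000000000000000000000000000000010000000000000000000000000000000000000000000000000000000000000000000000000000000000000000000000000000000000000000000000000000000000000000000000000000000000000000000000000000000000000000000000000000000000000000000000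000000000000000000000000000000000000000000002000000000000000000000000000000000000000000000000000000000000000000000000000000000000000000000000000000000000000000000000000000000000000000000000000000000000000000000000000000000000000000000000000000000000000000000000000000000000000000000000000000000000000000000000000000000000000000002000000000000000000000000000000000000000000000000000000000000000000000000000000000000000000000000000000000000000000000000000000000000000000000000000000000000000000000000000000000000000000000000000000000000000000000000080000000000000000000000000000000000000000c00000000000000000000000000000000000000000000000000000000000000000000000000000000000000000000000000000000000000000000000000000000000000000000000000000000000000000000000000000000000000000000000000000000000000000000000000000000400000000000000000000000000000c00000000000000000000000000000000000000000000000000000000000000000000000000000000000000000000000000000000000000000000000000000000000000000000000000000000000000000000000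000000000000000000000000000000000000000000000000000000000000080000000000000000000000000000000000000000000000000000000000000000000000000000000000000000000000000000000000000000000000000000000000000000000000000000000000000000000000000000000000000000000000000000000000000000000000002000000000000000000000000000000000000000000000000000000000000000000000000000000000000000000000000000000000000000000000000000000000000000000000000000000000000000000000000000000000000000000000000000000000000000000000000000000000000000000000000000000000000000000000000000002000000000000000000000000000000000000000000000000000180000000000000000000000000000000000000000000000000000000000000000000000000000000000000000000000000000000000000000000000000000000000000000000000000000000000000000000000000000000000000000000000000000000000000400000000000000000000000000000000000000000000000180000000000000000000000000000000000000000000000000000000000000000000000000000000000000000000000000000000000000000000000000000000000000000000000000000000000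000000000000000000000400000000000000000000000000000000000000000000000000000000000000000000000000000000000000000000000000000000000000000000000000000000000000000000000000000000000000000000000000000000000000000000000000000000000000000000000000000000000000000000000000000000000000000080000000000000000000000000000000000000000000000000000000000000000006000000000000000000000000000000000000000000000000000000000000000000000000000000000000000000000000000000000000000000000000000000000000000000000000000000000000000000000000000000000000000000000010000000000000000000000000000000000000000000000000000000000030000000000000000000000000000000000000000000000000000000000000000000000000000000000000000000000000000000000000000000000000000000000000000000000000000000000000000000000006000400000000000000000000000000000000000000000000000000000000000000000000000000000000000000000000000000000000000000000000000000000000000000000000000000000000000000000000000000000000000000000000000000000000000000000000000000000000000000000000000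000000000002000000000000000000000000000000000000000000000000000000000000000000000000000000000000000000000000000000000000000000000000000000000000000000000000000000000000000000000000000000000000000000000000000000000000000000000000000000000000000080000000000000000000000000000000000000000000000000006000000000000000000000000000000000000000000000000000000000000000000000000000000000000000000000000000000000000000000000000000000000000000000000000000000000000000000000000000000000000000000000000000000000000010000000000000000000000000000000000000000000000006000000000000000000000000000000000000000000000000000000000000000000000000000000000000000000000000000000000000000000000000000000000000000000000000000000000000000000000000000000000000000000000000000000000000000002000000000000000000000000000000000000000000000000000000000000000000000000000000000000000000000000000000000000000000000000000000000000000000000000000000000000000000000000000000000000000000000000000000000000000000000000000000000000000000000000000000000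000000000000080000000000000000000000000000000000000000000000000000000000000000000000000180000000000000000000000000000000000000000000000000000000000000000000000000000000000000000000000000000000000000000000000000000000000000000000000000000000000000000000000000000000000000010000000000000000000000000000000000000000000000000000000000000000000000180000000000000000000000000000000000000000000000000000000000000000000000000000000000000000000000000000000000000000000000000010000000000000000000000000000000000000000000000000000000000000000000000000000000000000000000000000000000000000000000000000000000000000000000000000000000000000000000000000000000000000000000000000000000000000000000000000000000000000000000000000000000000000000000000400000000000000000000030000000000000000000000000000000000000000000000000000000000000000000000000000000000000000000000000000000000000000000000000000000000000000000000000000000000000000000000000000000000000000000000000000000000000000000000000000000000000000000000000000000000000010000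000000000000006000000000000000000000000000000000000000000000000000000000000000000000000000000000000000000000000000000000000000000000000000000000000000000000000000000000000000000000000000000000002000000000000000000000000000000000000000000000000000000000000000000000000000000000000000000000000000000000000000000000000000000000000000000000000000000000000000000000000000000000000000000000000000000000000000000000000000000000000000000000000000000000000006000400000000000000000000000000000000000000000000000000000000000000000000000000000000000000000000000000000000000000000000000000000000000000000000000000000000000000000000000000000000000000000000002000000000000000000000000000000000000000000000000000000000000000000000000000000000000010000000000000000000000000000000000000000000000000000000000000000000000000000000000000000000000000000000000000000000000000000000000000000000000000000000000000000000000000000000000010000000000000000000000000000000000000000000000000000000000000000000000000000000000000000000000000000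00000000000000000000000200000000000000000000000000000000000000000000000000000000000000000000000000000000000000000000000000000000000000000000000000040000000000000000000000000000000000000000000000000000000000000000000000000000000000000000040000000000000000000000000000000000000000200000000000000000000000000000000000000000000000000000000000000000000000000000000000000000000000000000000000000000000000000000008000000000000000000000000000000000000000000000000000000000000000000000000000000000000000000000000000000000001000000000000000000200000000000000000000000000000000000000000000000000000000000000000000000000000000000000000000000000000000000000000000000000000000000000200000000000000000000000000000000000000000000000040000000000000000000000000000000000000000000000000000000000000000000000000000000000000000000000000000000000000000000000000000000000000000000000000000000000000000000000000000000000000000000000000000000000000000040000000000000000000000000000000000000000200040000000000000000000000000000000000000000000000000000000000000000000000000000000000000000000000000000000000000000000000000000000000000000000000000000000000000000000000000000000000000000000000000000000000000000000000000000000000000000000000000000000000000000000000000000000000000000000000000000000000000000000000000000000000000000000000000000000000000000000000000000000000000000000000000000000000000000000000000000000000000000000000000000000000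
noncomputable def p2mav : ℕ := 0xfffffffffffffffffffffffffffffffffffffffffffffffffffffffffffffffffffffffffffffffffffffffffffffffffffffffffffffffffffffffffffffffffffffffffffffffffffffffffffffffffffffffffffffffffffffffffffffffffffffffffffffffffffffffffffffffffffffffffffffffffffffffffffffff
noncomputable def p2mu : Tr ℕ := (.node (.node (.node (.node (.node (.node (.node (.node (.node (.node (.node (.leaf 0x0) (.leaf 0x0)) (.leaf 0x0)) (.node (.node (.leaf 0x0) (.leaf 0x0)) (.leaf 0x0))) (.node (.node (.node (.leaf 0x0) (.leaf 0x0)) (.leaf 0x0)) (.node (.leaf 0x0) (.leaf 0x2012000000000000002010013)))) (.node (.node (.node (.node (.leaf 0x0) (.leaf 0x0)) (.leaf 0x0)) (.node (.node (.leaf 0x0) (.leaf 0x0)) (.leaf 0x0))) (.node (.node (.node (.leaf 0x0) (.leaf 0x2012000000000000002010012)) (.leaf 0x0)) (.node (.leaf 0x20ca000000000000002010011) (.leaf 0x0))))) (.node (.node (.node (.node (.node (.leaf 0x0) (.leaf 0x0)) (.leaf 0x0)) (.node (.node (.leaf 0x0) (.leaf 0x0)) (.leaf 0x0))) (.node (.node (.node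 (.leaf 0x0) (.leaf 0x0)) (.leaf 0x0)) (.node (.leaf 0x200280000600000000000000) (.leaf 0x0)))) (.node (.node (.node (.node (.leaf 0x0) (.leaf 0x0)) (.leaf 0x200283000400000000000000)) (.node (.leaf 0x0) (.leaf 0x0))) (.node (.node (.node (.leaf 0xc0000000000000) (.leaf 0x0)) (.leaf 0x0)) (.node (.leaf 0x0) (.leaf 0x0)))))) (.node (.node (.node (.node (.node (.node (.leaf 0x0) (.leaf 0x0)) (.leaf 0x0)) (.node (.node (.leaf 0x0) (.leaf 0x0)) (.leaf 0x0))) (.node (.node (.node (.leaf 0x0) (.leaf 0x0)) (.leaf 0x0)) (.node (.leaf 0x0) (.leaf 0x0)))) (.node (.node (.node (.node (.leaf 0x0) (.leaf 0x0)) (.leaf 0x0)) (.node (.node (.leaf 0x600283000002000000000200) (.leaf 0x0)) (.leaf 0x0))) (.node (.node (.node (.leaf 0x0) (.leaf 0x0)) (.leaf 0x100900000000000000101801b)) (.node (.leaf 0x0) (.leaf 0x0))))) (.node (.node (.node (.node (.node (.leaf 0x0) (.leaf 0x0)) (.leaf 0x600680000200000000000000)) (.node (.node (.leaf 0x12000000000000000000018010) (.leaf 0x0)) (.leaf 0x0))) (.node (.node (.node (.leaf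 0x0) (.leaf 0x0)) (.leaf 0x0)) (.node (.leaf 0x0) (.leaf 0x0)))) (.node (.node (.node (.node (.leaf 0x1b0ca000000000000002008011) (.leaf 0x0)) (.leaf 0x0)) (.node (.leaf 0x0) (.leaf 0x0))) (.node (.node (.node (.leaf 0x0) (.leaf 0x0)) (.leaf 0x0)) (.node (.leaf 0x0) (.leaf 0x0))))))) (.node (.node (.node (.node (.node (.node (.node (.leaf 0x0) (.leaf 0x0)) (.leaf 0x20ca000000000000002010011)) (.node (.node (.leaf 0x0) (.leaf 0x0)) (.leaf 0x0))) (.node (.node (.node (.leaf 0x0) (.leaf 0x0)) (.leaf 0x0)) (.node (.leaf 0x0) (.leaf 0x0)))) (.node (.node (.node (.node (.leaf 0x0) (.leaf 0x0)) (.leaf 0x0)) (.node (.node (.leaf 0x0) (.leaf 0x0)) (.leaf 0x0))) (.node (.node (.node (.leaf 0x0) (.leaf 0x0)) (.leaf 0x1009000000000000001018018)) (.node (.leaf 0x0) (.leaf 0x0))))) (.node (.node (.node (.node (.node (.leaf 0x0) (.leaf 0x0)) (.leaf 0x0)) (.node (.node (.leaf 0x0) (.leaf 0x0)) (.leaf 0x0))) (.node (.node (.node (.leaf 0x0) (.leaf 0x0)) (.leaf 0x0)) (.node (.leaf 0x0) (.leaf 0x0)))) (.node (.node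 (.node (.node (.leaf 0x0) (.leaf 0x0)) (.leaf 0x0)) (.node (.leaf 0x0) (.leaf 0x0))) (.node (.node (.node (.leaf 0x0) (.leaf 0x0)) (.leaf 0x100900000000000000101801a)) (.node (.leaf 0x0) (.leaf 0x0)))))) (.node (.node (.node (.node (.node (.node (.leaf 0x0) (.leaf 0x0)) (.leaf 0x0)) (.node (.node (.leaf 0x0) (.leaf 0x0)) (.leaf 0x0))) (.node (.node (.node (.leaf 0x600603000401001008000600) (.leaf 0x0)) (.leaf 0x0)) (.node (.leaf 0x0) (.leaf 0x0)))) (.node (.node (.node (.node (.leaf 0x0) (.leaf 0x0)) (.leaf 0x301b000000000000003008009)) (.node (.node (.leaf 0x0) (.leaf 0x0)) (.leaf 0x0))) (.node (.node (.node (.leaf 0x0) (.leaf 0x0)) (.leaf 0x0)) (.node (.leaf 0x0) (.leaf 0x0))))) (.node (.node (.node (.node (.node (.leaf 0x0) (.leaf 0x0)) (.leaf 0x3)) (.node (.node (.leaf 0x0) (.leaf 0x0)) (.leaf 0x301b000000000000003008008))) (.node (.node (.node (.leaf 0x0) (.leaf 0x0)) (.leaf 0x0)) (.node (.leaf 0x0) (.leaf 0x0)))) (.node (.node (.node (.node (.leaf 0x0) (.leaf 0x0)) (.leaf 0x0)) (.node (.leaf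 0x0) (.leaf 0x0))) (.node (.node (.node (.leaf 0x0) (.leaf 0x0)) (.leaf 0x0)) (.node (.leaf 0x0) (.leaf 0x0)))))))) (.node (.node (.node (.node (.node (.node (.node (.node (.leaf 0x0) (.leaf 0x0)) (.leaf 0x0)) (.node (.node (.leaf 0x2002000000000000003010010) (.leaf 0x0)) (.leaf 0x0))) (.node (.node (.node (.leaf 0x0) (.leaf 0x0)) (.leaf 0x0)) (.node (.leaf 0x0) (.leaf 0x0)))) (.node (.node (.node (.node (.leaf 0x0) (.leaf 0x0)) (.leaf 0x0)) (.node (.node (.leaf 0x0) (.leaf 0x0)) (.leaf 0x0))) (.node (.node (.node (.leaf 0x0) (.leaf 0x0)) (.leaf 0x0)) (.node (.leaf 0x0) (.leaf 0x0))))) (.node (.node (.node (.node (.node (.leaf 0x0) (.leaf 0x0)) (.leaf 0x0)) (.node (.node (.leaf 0x0) (.leaf 0x0)) (.leaf 0x0))) (.node (.node (.node (.leaf 0x0) (.leaf 0x0)) (.leaf 0x0)) (.node (.leaf 0x0) (.leaf 0x0)))) (.node (.node (.node (.node (.leaf 0x0) (.leaf 0x0)) (.leaf 0x0)) (.node (.leaf 0x0) (.leaf 0x0))) (.node (.node (.node (.leaf 0xc0200000) (.leaf 0x0)) (.leaf 0x0)) (.node (.leaf 0x30cb000000000000003008009)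 (.leaf 0x0)))))) (.node (.node (.node (.node (.node (.node (.leaf 0x0) (.leaf 0x0)) (.leaf 0x0)) (.node (.node (.leaf 0x0) (.leaf 0x0)) (.leaf 0x200283000400000000000000))) (.node (.node (.node (.leaf 0x0) (.leaf 0x0)) (.leaf 0x0)) (.node (.leaf 0x0) (.leaf 0x0)))) (.node (.node (.node (.node (.leaf 0x0) (.leaf 0x0)) (.leaf 0x600680000000000000000000)) (.node (.node (.leaf 0x58000000000000000000003) (.leaf 0x0)) (.leaf 0x0))) (.node (.node (.node (.leaf 0x0) (.leaf 0x0)) (.leaf 0x0)) (.node (.leaf 0x0) (.leaf 0x0))))) (.node (.node (.node (.node (.node (.leaf 0x0) (.leaf 0x0)) (.leaf 0x600680000000000000000000)) (.node (.node (.leaf 0x0) (.leaf 0x0)) (.leaf 0x0))) (.node (.node (.node (.leaf 0x0) (.leaf 0x0)) (.leaf 0x0)) (.node (.leaf 0x0) (.leaf 0x0)))) (.node (.node (.node (.node (.leaf 0x0) (.leaf 0x0)) (.leaf 0x0)) (.node (.leaf 0xc8000000000000000000001) (.leaf 0x0))) (.node (.node (.node (.leaf 0x0) (.leaf 0x0)) (.leaf 0x0)) (.node (.leaf 0x0) (.leaf 0x0))))))) (.node (.node (.node (.node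 (.node (.node (.node (.leaf 0x0) (.leaf 0x0)) (.leaf 0x0)) (.node (.node (.leaf 0x0) (.leaf 0x0)) (.leaf 0x0))) (.node (.node (.node (.leaf 0x0) (.leaf 0x0)) (.leaf 0x0)) (.node (.leaf 0x0) (.leaf 0x0)))) (.node (.node (.node (.node (.leaf 0x2092000000000000201018002) (.leaf 0x0)) (.leaf 0x0)) (.node (.node (.leaf 0x0) (.leaf 0x0)) (.leaf 0x0))) (.node (.node (.node (.leaf 0x0) (.leaf 0x0)) (.leaf 0x0)) (.node (.leaf 0x0) (.leaf 0x0))))) (.node (.node (.node (.node (.node (.leaf 0x0) (.leaf 0x0)) (.leaf 0x301b000000000000003008008)) (.node (.node (.leaf 0x2002000000000000001010010) (.leaf 0x0)) (.leaf 0x0))) (.node (.node (.node (.leaf 0x0) (.leaf 0x0)) (.leaf 0x2092000000000000002010012)) (.node (.leaf 0x0) (.leaf 0x3)))) (.node (.node (.node (.node (.leaf 0x0) (.leaf 0x0)) (.leaf 0x0)) (.node (.leaf 0x0) (.leaf 0x0))) (.node (.node (.node (.leaf 0x0) (.leaf 0x0)) (.leaf 0x0)) (.node (.leaf 0x0) (.leaf 0x0)))))) (.node (.node (.node (.node (.node (.node (.leaf 0x0) (.leaf 0x0)) (.leaf 0x0)) (.node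 (.node (.leaf 0x0) (.leaf 0x0)) (.leaf 0x0))) (.node (.node (.node (.leaf 0x0) (.leaf 0x0)) (.leaf 0x0)) (.node (.leaf 0x600000) (.leaf 0x0)))) (.node (.node (.node (.node (.leaf 0x0) (.leaf 0x0)) (.leaf 0x1)) (.node (.leaf 0x0) (.leaf 0x0))) (.node (.node (.node (.leaf 0x0) (.leaf 0x0)) (.leaf 0x0)) (.node (.leaf 0x0) (.leaf 0x0))))) (.node (.node (.node (.node (.node (.leaf 0x0) (.leaf 0x0)) (.leaf 0x0)) (.node (.node (.leaf 0x0) (.leaf 0x0)) (.leaf 0x0))) (.node (.node (.node (.leaf 0x0) (.leaf 0x0)) (.leaf 0x0)) (.node (.leaf 0x0) (.leaf 0x0)))) (.node (.node (.node (.node (.leaf 0x0) (.leaf 0x0)) (.leaf 0x0)) (.node (.leaf 0x600201000000000008000000) (.leaf 0x201000400000000000000))) (.node (.node (.node (.leaf 0x0) (.leaf 0x0)) (.leaf 0x0)) (.node (.leaf 0x0) (.leaf 0x0))))))))) (.node (.node (.node (.node (.node (.node (.node (.node (.node (.leaf 0x0) (.leaf 0x0)) (.leaf 0x0)) (.node (.node (.leaf 0x0) (.leaf 0x0)) (.leaf 0x0))) (.node (.node (.node (.leaf 0x0) (.leaf 0x0)) (.leaf 0x0)) (.node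 (.leaf 0x0) (.leaf 0x0)))) (.node (.node (.node (.node (.leaf 0x0) (.leaf 0x0)) (.leaf 0x0)) (.node (.node (.leaf 0x0) (.leaf 0x0)) (.leaf 0x0))) (.node (.node (.node (.leaf 0x0) (.leaf 0x0)) (.leaf 0x1009000000000000001018018)) (.node (.leaf 0x0) (.leaf 0x0))))) (.node (.node (.node (.node (.node (.leaf 0x0) (.leaf 0x0)) (.leaf 0x0)) (.node (.node (.leaf 0x0) (.leaf 0x0)) (.leaf 0x0))) (.node (.node (.node (.leaf 0x0) (.leaf 0x0)) (.leaf 0x0)) (.node (.leaf 0x200000) (.leaf 0x0)))) (.node (.node (.node (.node (.leaf 0x0) (.leaf 0x0)) (.leaf 0x0)) (.node (.leaf 0x0) (.leaf 0x0))) (.node (.node (.node (.leaf 0x60045b000000600000000000) (.leaf 0x0)) (.leaf 0x0)) (.node (.leaf 0x0) (.leaf 0x0)))))) (.node (.node (.node (.node (.node (.node (.leaf 0x0) (.leaf 0x0)) (.leaf 0x0)) (.node (.node (.leaf 0x0) (.leaf 0x0)) (.leaf 0x200280000000000000000000))) (.node (.node (.node (.leaf 0x0) (.leaf 0x0)) (.leaf 0x0)) (.node (.leaf 0x0) (.leaf 0x0)))) (.node (.node (.node (.node (.leaf 0x0) (.leaf 0x0)) (.leaf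 0x1)) (.node (.node (.leaf 0x400000000401000000000200) (.leaf 0x0)) (.leaf 0x0))) (.node (.node (.node (.leaf 0x0) (.leaf 0x0)) (.leaf 0x0)) (.node (.leaf 0x0) (.leaf 0x0))))) (.node (.node (.node (.node (.node (.leaf 0x0) (.leaf 0x100900000000000000101801b)) (.leaf 0x301b000000000000003008008)) (.node (.node (.leaf 0x0) (.leaf 0x0)) (.leaf 0x0))) (.node (.node (.node (.leaf 0x0) (.leaf 0x0)) (.leaf 0x0)) (.node (.leaf 0x0) (.leaf 0x0)))) (.node (.node (.node (.node (.leaf 0x200681000002000000001600) (.leaf 0x0)) (.leaf 0x0)) (.node (.leaf 0x0) (.leaf 0x0))) (.node (.node (.node (.leaf 0x0) (.leaf 0x0)) (.leaf 0x2012000000000000002010011)) (.node (.leaf 0x0) (.leaf 0x0))))))) (.node (.node (.node (.node (.node (.node (.node (.leaf 0x0) (.leaf 0x0)) (.leaf 0x0)) (.node (.node (.leaf 0x10092000000000000001000012) (.leaf 0x0)) (.leaf 0x0))) (.node (.node (.node (.leaf 0x0) (.leaf 0x0)) (.leaf 0x0)) (.node (.leaf 0x0) (.leaf 0x0)))) (.node (.node (.node (.node (.leaf 0x0) (.leaf 0x0)) (.leaf 0x0)) (.node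 (.node (.leaf 0x0) (.leaf 0x0)) (.leaf 0x0))) (.node (.node (.node (.leaf 0x0) (.leaf 0x0)) (.leaf 0x0)) (.node (.leaf 0x0) (.leaf 0x0))))) (.node (.node (.node (.node (.node (.leaf 0x0) (.leaf 0x0)) (.leaf 0x0)) (.node (.node (.leaf 0x2002000000000000001010010) (.leaf 0x0)) (.leaf 0x0))) (.node (.node (.node (.leaf 0x0) (.leaf 0x0)) (.leaf 0x2012000000000000002010011)) (.node (.leaf 0x0) (.leaf 0x0)))) (.node (.node (.node (.node (.leaf 0x0) (.leaf 0x0)) (.leaf 0x0)) (.node (.leaf 0x0) (.leaf 0x0))) (.node (.node (.node (.leaf 0x0) (.leaf 0x0)) (.leaf 0x0)) (.node (.leaf 0x0) (.leaf 0x0)))))) (.node (.node (.node (.node (.node (.node (.leaf 0x0) (.leaf 0x0)) (.leaf 0x0)) (.node (.node (.leaf 0x0) (.leaf 0x0)) (.leaf 0x0))) (.node (.node (.node (.leaf 0x0) (.leaf 0x0)) (.leaf 0x0)) (.node (.leaf 0x400402000600000000000000) (.leaf 0x0)))) (.node (.node (.node (.node (.leaf 0x0) (.leaf 0x0)) (.leaf 0x600081000400000000000000)) (.node (.leaf 0x0) (.leaf 0x0))) (.node (.node (.node (.leaf 0x0) (.leaf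 0x0)) (.leaf 0x0)) (.node (.leaf 0x0) (.leaf 0x0))))) (.node (.node (.node (.node (.node (.leaf 0x0) (.leaf 0x0)) (.leaf 0x200283000400000000000000)) (.node (.node (.leaf 0x0) (.leaf 0x0)) (.leaf 0x100900000000000000101801b))) (.node (.node (.node (.leaf 0x1000000000000000) (.leaf 0x0)) (.leaf 0x0)) (.node (.leaf 0x0) (.leaf 0x0)))) (.node (.node (.node (.node (.leaf 0x0) (.leaf 0x0)) (.leaf 0x0)) (.node (.leaf 0x0) (.leaf 0x0))) (.node (.node (.node (.leaf 0x0) (.leaf 0x0)) (.leaf 0x0)) (.node (.leaf 0x0) (.leaf 0x0)))))))) (.node (.node (.node (.node (.node (.node (.node (.node (.leaf 0x0) (.leaf 0x0)) (.leaf 0x0)) (.node (.node (.leaf 0x2002000000000000003010010) (.leaf 0x0)) (.leaf 0x0))) (.node (.node (.node (.leaf 0x0) (.leaf 0x0)) (.leaf 0x90000000000000000000002)) (.node (.leaf 0x0) (.leaf 0x0)))) (.node (.node (.node (.node (.leaf 0x0) (.leaf 0x0)) (.leaf 0x0)) (.node (.node (.leaf 0x0) (.leaf 0x0)) (.leaf 0x0))) (.node (.node (.node (.leaf 0x0) (.leaf 0x0)) (.leaf 0x0)) (.node (.leaf 0x0)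 (.leaf 0x301b000000000000003008008))))) (.node (.node (.node (.node (.node (.leaf 0x10092000000000000001000052) (.leaf 0x0)) (.leaf 0x0)) (.node (.node (.leaf 0x0) (.leaf 0x0)) (.leaf 0x0))) (.node (.node (.node (.leaf 0x0) (.leaf 0x0)) (.leaf 0x0)) (.node (.leaf 0x0) (.leaf 0x0)))) (.node (.node (.node (.node (.leaf 0x0) (.leaf 0x0)) (.leaf 0x0)) (.node (.leaf 0x0) (.leaf 0x0))) (.node (.node (.node (.leaf 0x0) (.leaf 0x0)) (.leaf 0x0)) (.node (.leaf 0x0) (.leaf 0x0)))))) (.node (.node (.node (.node (.node (.node (.leaf 0x0) (.leaf 0x301b000000000000003008009)) (.leaf 0x0)) (.node (.node (.leaf 0x0) (.leaf 0x0)) (.leaf 0x2012000000000000002010011))) (.node (.node (.node (.leaf 0x0) (.leaf 0x0)) (.leaf 0x0)) (.node (.leaf 0x0) (.leaf 0x0)))) (.node (.node (.node (.node (.leaf 0x0) (.leaf 0x0)) (.leaf 0x0)) (.node (.node (.leaf 0x200681000002000000000600) (.leaf 0x0)) (.leaf 0x0))) (.node (.node (.node (.leaf 0x0) (.leaf 0x0)) (.leaf 0x0)) (.node (.leaf 0x0) (.leaf 0x0))))) (.node (.node (.node (.node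 (.node (.leaf 0x0) (.leaf 0x0)) (.leaf 0x0)) (.node (.node (.leaf 0x0) (.leaf 0x0)) (.leaf 0x0))) (.node (.node (.node (.leaf 0x0) (.leaf 0x0)) (.leaf 0x0)) (.node (.leaf 0x0) (.leaf 0x0)))) (.node (.node (.node (.node (.leaf 0x0) (.leaf 0x0)) (.leaf 0x0)) (.node (.leaf 0x200201000403000018000200) (.leaf 0x0))) (.node (.node (.node (.leaf 0x0) (.leaf 0x0)) (.leaf 0x0)) (.node (.leaf 0x0) (.leaf 0x0))))))) (.node (.node (.node (.node (.node (.node (.node (.leaf 0x0) (.leaf 0x0)) (.leaf 0x0)) (.node (.node (.leaf 0x0) (.leaf 0x0)) (.leaf 0x200283000400000000000000))) (.node (.node (.node (.leaf 0x0) (.leaf 0x0)) (.leaf 0x0)) (.node (.leaf 0x0) (.leaf 0x0)))) (.node (.node (.node (.node (.leaf 0x0) (.leaf 0x0)) (.leaf 0x0)) (.node (.node (.leaf 0x3003000000000000003008008) (.leaf 0x0)) (.leaf 0x0))) (.node (.node (.node (.leaf 0x0) (.leaf 0x0)) (.leaf 0x0)) (.node (.leaf 0x0) (.leaf 0x0))))) (.node (.node (.node (.node (.node (.leaf 0x0) (.leaf 0x0)) (.leaf 0x600680000000000000000000)) (.node (.node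 (.leaf 0x0) (.leaf 0x0)) (.leaf 0x0))) (.node (.node (.node (.leaf 0x0) (.leaf 0x0)) (.leaf 0x0)) (.node (.leaf 0x0) (.leaf 0x0)))) (.node (.node (.node (.node (.leaf 0x0) (.leaf 0x0)) (.leaf 0x0)) (.node (.leaf 0x0) (.leaf 0x0))) (.node (.node (.node (.leaf 0x0) (.leaf 0x0)) (.leaf 0x100900000000000000101801b)) (.node (.leaf 0x0) (.leaf 0x3)))))) (.node (.node (.node (.node (.node (.node (.leaf 0x0) (.leaf 0x0)) (.leaf 0x0)) (.node (.node (.leaf 0x0) (.leaf 0x0)) (.leaf 0x0))) (.node (.node (.node (.leaf 0x0) (.leaf 0x0)) (.leaf 0x0)) (.node (.leaf 0x0) (.leaf 0x0)))) (.node (.node (.node (.node (.leaf 0x0) (.leaf 0x0)) (.leaf 0x600081000400000000000000)) (.node (.leaf 0x0) (.leaf 0x0))) (.node (.node (.node (.leaf 0x0) (.leaf 0x0)) (.leaf 0x0)) (.node (.leaf 0x0) (.leaf 0x0))))) (.node (.node (.node (.node (.node (.leaf 0x0) (.leaf 0x0)) (.leaf 0x0)) (.node (.node (.leaf 0x0) (.leaf 0x0)) (.leaf 0x0))) (.node (.node (.node (.leaf 0xc0000) (.leaf 0x0)) (.leaf 0x0)) (.node (.leaf 0x0) (.leaf 0x0))))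 (.node (.node (.node (.node (.leaf 0x0) (.leaf 0x3)) (.leaf 0x0)) (.node (.leaf 0x0) (.leaf 0x600681000400000000000000))) (.node (.node (.node (.leaf 0x0) (.leaf 0x0)) (.leaf 0x0)) (.node (.leaf 0x0) (.leaf 0x0)))))))))) (.node (.node (.node (.node (.node (.node (.node (.node (.node (.node (.leaf 0x0) (.leaf 0x0)) (.leaf 0x0)) (.node (.node (.leaf 0x0) (.leaf 0x0)) (.leaf 0x0))) (.node (.node (.node (.leaf 0x0) (.leaf 0x0)) (.leaf 0x0)) (.node (.leaf 0x0) (.leaf 0x0)))) (.node (.node (.node (.node (.leaf 0x0) (.leaf 0x0)) (.leaf 0x0)) (.node (.node (.leaf 0x0) (.leaf 0x0)) (.leaf 0x0))) (.node (.node (.node (.leaf 0x0) (.leaf 0x0)) (.leaf 0x0)) (.node (.leaf 0x0) (.leaf 0x0))))) (.node (.node (.node (.node (.node (.leaf 0x0) (.leaf 0x0)) (.leaf 0x0)) (.node (.node (.leaf 0x0) (.leaf 0x0)) (.leaf 0x0))) (.node (.node (.node (.leaf 0x0) (.leaf 0x0)) (.leaf 0x0)) (.node (.leaf 0x6c3000600000000000000) (.leaf 0x0)))) (.node (.node (.node (.node (.leaf 0x0) (.leaf 0x0)) (.leaf 0x0)) (.node (.leaf 0x0)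 (.leaf 0x0))) (.node (.node (.node (.leaf 0x200280000600200000000000) (.leaf 0x0)) (.leaf 0x0)) (.node (.leaf 0x0) (.leaf 0x0)))))) (.node (.node (.node (.node (.node (.node (.leaf 0x0) (.leaf 0x0)) (.leaf 0x0)) (.node (.node (.leaf 0x0) (.leaf 0x0)) (.leaf 0x0))) (.node (.node (.node (.leaf 0x0) (.leaf 0x0)) (.leaf 0x0)) (.node (.leaf 0x0) (.leaf 0x0)))) (.node (.node (.node (.node (.leaf 0x0) (.leaf 0x0)) (.leaf 0x301b000000000000003008009)) (.node (.node (.leaf 0x0) (.leaf 0x0)) (.leaf 0x0))) (.node (.node (.node (.leaf 0x0) (.leaf 0x0)) (.leaf 0x3)) (.node (.leaf 0x0) (.leaf 0x0))))) (.node (.node (.node (.node (.node (.leaf 0x0) (.leaf 0x0)) (.leaf 0x0)) (.node (.node (.leaf 0x0) (.leaf 0x0)) (.leaf 0x0))) (.node (.node (.node (.leaf 0x0) (.leaf 0x0)) (.leaf 0x0)) (.node (.leaf 0x0) (.leaf 0x0)))) (.node (.node (.node (.node (.leaf 0x18) (.leaf 0x0)) (.leaf 0x0)) (.node (.leaf 0x0) (.leaf 0x0))) (.node (.node (.node (.leaf 0x0) (.leaf 0x0)) (.leaf 0x0)) (.node (.leaf 0x0) (.leaf 0x0))))))) (.node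 (.node (.node (.node (.node (.node (.node (.leaf 0x0) (.leaf 0x0)) (.leaf 0x0)) (.node (.node (.leaf 0x0) (.leaf 0x0)) (.leaf 0x0))) (.node (.node (.node (.leaf 0x0) (.leaf 0x0)) (.leaf 0x0)) (.node (.leaf 0x0) (.leaf 0x0)))) (.node (.node (.node (.node (.leaf 0x0) (.leaf 0x0)) (.leaf 0x0)) (.node (.node (.leaf 0x0) (.leaf 0x0)) (.leaf 0x0))) (.node (.node (.node (.leaf 0x0) (.leaf 0x0)) (.leaf 0x3)) (.node (.leaf 0x0) (.leaf 0x100900000000000000101801b))))) (.node (.node (.node (.node (.node (.leaf 0x0) (.leaf 0x0)) (.leaf 0x0)) (.node (.node (.leaf 0x2092000000000000003008012) (.leaf 0x0)) (.leaf 0x0))) (.node (.node (.node (.leaf 0x0) (.leaf 0x0)) (.leaf 0x0)) (.node (.leaf 0x0) (.leaf 0x0)))) (.node (.node (.node (.node (.leaf 0x0) (.leaf 0x0)) (.leaf 0x0)) (.node (.leaf 0x0) (.leaf 0x0))) (.node (.node (.node (.leaf 0x0) (.leaf 0x0)) (.leaf 0x0)) (.node (.leaf 0x0) (.leaf 0x0)))))) (.node (.node (.node (.node (.node (.node (.leaf 0x0) (.leaf 0x0)) (.leaf 0x0)) (.node (.node (.leaf 0x0) (.leaf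 0x0)) (.leaf 0x0))) (.node (.node (.node (.leaf 0x0) (.leaf 0x0)) (.leaf 0x0)) (.node (.leaf 0x0) (.leaf 0x0)))) (.node (.node (.node (.node (.leaf 0x0) (.leaf 0x0)) (.leaf 0x600480000000000000000000)) (.node (.leaf 0x0) (.leaf 0x0))) (.node (.node (.node (.leaf 0x0) (.leaf 0x0)) (.leaf 0x0)) (.node (.leaf 0x0) (.leaf 0x0))))) (.node (.node (.node (.node (.node (.leaf 0x0) (.leaf 0x0)) (.leaf 0x200280000000000000000000)) (.node (.node (.leaf 0x0) (.leaf 0x0)) (.leaf 0x0))) (.node (.node (.node (.leaf 0x0) (.leaf 0x0)) (.leaf 0x0)) (.node (.leaf 0x0) (.leaf 0x0)))) (.node (.node (.node (.node (.leaf 0x0) (.leaf 0x0)) (.leaf 0x0)) (.node (.leaf 0x0) (.leaf 0x0))) (.node (.node (.node (.leaf 0x0) (.leaf 0x0)) (.leaf 0x0)) (.node (.leaf 0x0) (.leaf 0x0)))))))) (.node (.node (.node (.node (.node (.node (.node (.node (.leaf 0x0) (.leaf 0x0)) (.leaf 0x0)) (.node (.node (.leaf 0x90000000000000002018002) (.leaf 0x0)) (.leaf 0x0))) (.node (.node (.node (.leaf 0x0) (.leaf 0x0)) (.leaf 0x301b000000000000003008008))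 (.node (.leaf 0x0) (.leaf 0x0)))) (.node (.node (.node (.node (.leaf 0x0) (.leaf 0x0)) (.leaf 0x0)) (.node (.node (.leaf 0x0) (.leaf 0x0)) (.leaf 0x0))) (.node (.node (.node (.leaf 0x0) (.leaf 0x0)) (.leaf 0x0)) (.node (.leaf 0x0) (.leaf 0x0))))) (.node (.node (.node (.node (.node (.leaf 0x0) (.leaf 0x0)) (.leaf 0x0)) (.node (.node (.leaf 0x0) (.leaf 0x0)) (.leaf 0x0))) (.node (.node (.node (.leaf 0x0) (.leaf 0x0)) (.leaf 0x0)) (.node (.leaf 0x0) (.leaf 0x0)))) (.node (.node (.node (.node (.leaf 0x0) (.leaf 0x0)) (.leaf 0x0)) (.node (.leaf 0x0) (.leaf 0x0))) (.node (.node (.node (.leaf 0x0) (.leaf 0x0)) (.leaf 0x0)) (.node (.leaf 0x305b00000000000000300800b) (.leaf 0x0)))))) (.node (.node (.node (.node (.node (.node (.leaf 0x0) (.leaf 0x3)) (.leaf 0x0)) (.node (.node (.leaf 0x0) (.leaf 0x0)) (.leaf 0x301b000000000000003008008))) (.node (.node (.node (.leaf 0x0) (.leaf 0x0)) (.leaf 0x0)) (.node (.leaf 0x0) (.leaf 0x0)))) (.node (.node (.node (.node (.leaf 0x0) (.leaf 0x0)) (.leaf 0x241000200000000000000))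 (.node (.node (.leaf 0x30cb000000000000003008009) (.leaf 0x0)) (.leaf 0x0))) (.node (.node (.node (.leaf 0x0) (.leaf 0x0)) (.leaf 0x0)) (.node (.leaf 0x0) (.leaf 0x0))))) (.node (.node (.node (.node (.node (.leaf 0x0) (.leaf 0x0)) (.leaf 0x400201000400000000000000)) (.node (.node (.leaf 0x0) (.leaf 0x0)) (.leaf 0x0))) (.node (.node (.node (.leaf 0x0) (.leaf 0x0)) (.leaf 0x0)) (.node (.leaf 0x0) (.leaf 0x0)))) (.node (.node (.node (.node (.leaf 0x0) (.leaf 0x0)) (.leaf 0x0)) (.node (.leaf 0x402000401000000000600) (.leaf 0x0))) (.node (.node (.node (.leaf 0x0) (.leaf 0x0)) (.leaf 0x0)) (.node (.leaf 0x0) (.leaf 0x0))))))) (.node (.node (.node (.node (.node (.node (.node (.leaf 0x0) (.leaf 0x0)) (.leaf 0x0)) (.node (.node (.leaf 0x0) (.leaf 0x0)) (.leaf 0x0))) (.node (.node (.node (.leaf 0x0) (.leaf 0x0)) (.leaf 0x0)) (.node (.leaf 0x0) (.leaf 0x0)))) (.node (.node (.node (.node (.leaf 0x0) (.leaf 0x0)) (.leaf 0x0)) (.node (.node (.leaf 0x0) (.leaf 0x0)) (.leaf 0x0))) (.node (.node (.node (.leaf 0x0)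 (.leaf 0x0)) (.leaf 0x301b000000000000003008008)) (.node (.leaf 0x0) (.leaf 0x0))))) (.node (.node (.node (.node (.node (.leaf 0x0) (.leaf 0x0)) (.leaf 0x301b00000000000000300800b)) (.node (.node (.leaf 0x0) (.leaf 0x0)) (.leaf 0x0))) (.node (.node (.node (.leaf 0x0) (.leaf 0x0)) (.leaf 0x0)) (.node (.leaf 0x0) (.leaf 0x301b000000000000003008009)))) (.node (.node (.node (.node (.leaf 0x0) (.leaf 0x0)) (.leaf 0x0)) (.node (.leaf 0x0) (.leaf 0x0))) (.node (.node (.node (.leaf 0x0) (.leaf 0x0)) (.leaf 0x3)) (.node (.leaf 0x0) (.leaf 0x0)))))) (.node (.node (.node (.node (.node (.node (.leaf 0x0) (.leaf 0x0)) (.leaf 0x0)) (.node (.node (.leaf 0x0) (.leaf 0x0)) (.leaf 0x0))) (.node (.node (.node (.leaf 0x0) (.leaf 0x0)) (.leaf 0x0)) (.node (.leaf 0x600000) (.leaf 0x0)))) (.node (.node (.node (.node (.leaf 0x0) (.leaf 0x0)) (.leaf 0x301b000000000000003008009)) (.node (.leaf 0x0) (.leaf 0x2012000000000000002010013))) (.node (.node (.node (.leaf 0x0) (.leaf 0x0)) (.leaf 0x0)) (.node (.leaf 0x0) (.leaf 0x0)))))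 (.node (.node (.node (.node (.node (.leaf 0x0) (.leaf 0x0)) (.leaf 0x0)) (.node (.node (.leaf 0x0) (.leaf 0x0)) (.leaf 0x0))) (.node (.node (.node (.leaf 0x0) (.leaf 0x0)) (.leaf 0x0)) (.node (.leaf 0x0) (.leaf 0x0)))) (.node (.node (.node (.node (.leaf 0x0) (.leaf 0x0)) (.leaf 0x0)) (.node (.leaf 0x0) (.leaf 0x0))) (.node (.node (.node (.leaf 0x0) (.leaf 0x0)) (.leaf 0x0)) (.node (.leaf 0x0) (.leaf 0x0))))))))) (.node (.node (.node (.node (.node (.node (.node (.node (.node (.leaf 0x0) (.leaf 0x0)) (.leaf 0x0)) (.node (.node (.leaf 0x0) (.leaf 0x0)) (.leaf 0x0))) (.node (.node (.node (.leaf 0x0) (.leaf 0x0)) (.leaf 0x0)) (.node (.leaf 0x0) (.leaf 0x0)))) (.node (.node (.node (.node (.leaf 0x0) (.leaf 0x0)) (.leaf 0x0)) (.node (.node (.leaf 0x0) (.leaf 0x0)) (.leaf 0x0))) (.node (.node (.node (.leaf 0x0) (.leaf 0x0)) (.leaf 0x301b000000000000003008009)) (.node (.leaf 0x0) (.leaf 0x0))))) (.node (.node (.node (.node (.node (.leaf 0x0) (.leaf 0x0)) (.leaf 0x0)) (.node (.node (.leaf 0x0) (.leaf 0x0))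 (.leaf 0x0))) (.node (.node (.node (.leaf 0x0) (.leaf 0x0)) (.leaf 0x0)) (.node (.leaf 0x0) (.leaf 0x0)))) (.node (.node (.node (.node (.leaf 0x0) (.leaf 0x0)) (.leaf 0x0)) (.node (.leaf 0x0) (.leaf 0x0))) (.node (.node (.node (.leaf 0x0) (.leaf 0x0)) (.leaf 0x0)) (.node (.leaf 0x0) (.leaf 0x0)))))) (.node (.node (.node (.node (.node (.node (.leaf 0x0) (.leaf 0x0)) (.leaf 0x0)) (.node (.node (.leaf 0x0) (.leaf 0x0)) (.leaf 0x200083000400000000000000))) (.node (.node (.node (.leaf 0x0) (.leaf 0x0)) (.leaf 0x0)) (.node (.leaf 0x0) (.leaf 0x0)))) (.node (.node (.node (.node (.leaf 0x0) (.leaf 0x0)) (.leaf 0x400601000400000000000000)) (.node (.node (.leaf 0x0) (.leaf 0x0)) (.leaf 0x0))) (.node (.node (.node (.leaf 0x0) (.leaf 0x0)) (.leaf 0x0)) (.node (.leaf 0x0) (.leaf 0x0))))) (.node (.node (.node (.node (.node (.leaf 0x0) (.leaf 0x301b000000000000003008008)) (.leaf 0x2012000000000000002010011)) (.node (.node (.leaf 0x0) (.leaf 0x0)) (.leaf 0x0))) (.node (.node (.node (.leaf 0x0) (.leaf 0x0)) (.leaf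 0x0)) (.node (.leaf 0x0) (.leaf 0x0)))) (.node (.node (.node (.node (.leaf 0x0) (.leaf 0x0)) (.leaf 0x0)) (.node (.leaf 0x10c9000000000000001018019) (.leaf 0x0))) (.node (.node (.node (.leaf 0x0) (.leaf 0x0)) (.leaf 0x0)) (.node (.leaf 0x0) (.leaf 0x0))))))) (.node (.node (.node (.node (.node (.node (.node (.leaf 0x0) (.leaf 0x0)) (.leaf 0x200283000401000000000000)) (.node (.node (.leaf 0x0) (.leaf 0x0)) (.leaf 0x2012000000000000002010012))) (.node (.node (.node (.leaf 0x0) (.leaf 0x0)) (.leaf 0x0)) (.node (.leaf 0x0) (.leaf 0x0)))) (.node (.node (.node (.node (.leaf 0x200000000000000000) (.leaf 0x0)) (.leaf 0x0)) (.node (.node (.leaf 0x0) (.leaf 0x0)) (.leaf 0x0))) (.node (.node (.node (.leaf 0x0) (.leaf 0x0)) (.leaf 0x0)) (.node (.leaf 0x0) (.leaf 0x0))))) (.node (.node (.node (.node (.node (.leaf 0x0) (.leaf 0x0)) (.leaf 0x0)) (.node (.node (.leaf 0x2093000000000000003008002) (.leaf 0x0)) (.leaf 0x0))) (.node (.node (.node (.leaf 0x0) (.leaf 0x0)) (.leaf 0x0)) (.node (.leaf 0x0) (.leaf 0x0))))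 (.node (.node (.node (.node (.leaf 0x0) (.leaf 0x0)) (.leaf 0x0)) (.node (.leaf 0x0) (.leaf 0x0))) (.node (.node (.node (.leaf 0x0) (.leaf 0x0)) (.leaf 0x0)) (.node (.leaf 0x0) (.leaf 0x2012000000000000002010013)))))) (.node (.node (.node (.node (.node (.node (.leaf 0x0) (.leaf 0x0)) (.leaf 0x0)) (.node (.node (.leaf 0x0) (.leaf 0x0)) (.leaf 0x0))) (.node (.node (.node (.leaf 0x0) (.leaf 0x0)) (.leaf 0x0)) (.node (.leaf 0x200043000400000000000000) (.leaf 0x0)))) (.node (.node (.node (.node (.leaf 0x0) (.leaf 0x0)) (.leaf 0x0)) (.node (.leaf 0x0) (.leaf 0x0))) (.node (.node (.node (.leaf 0x0) (.leaf 0x0)) (.leaf 0x0)) (.node (.leaf 0x0) (.leaf 0x0))))) (.node (.node (.node (.node (.node (.leaf 0x0) (.leaf 0x0)) (.leaf 0x0)) (.node (.node (.leaf 0x0) (.leaf 0x0)) (.leaf 0x0))) (.node (.node (.node (.leaf 0x18000000000000000) (.leaf 0x0)) (.leaf 0x0)) (.node (.leaf 0x0) (.leaf 0x0)))) (.node (.node (.node (.node (.leaf 0x0) (.leaf 0x0)) (.leaf 0x0)) (.node (.leaf 0x600681000403000000000000) (.leaf 0x200280000000000000000000)))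 (.node (.node (.node (.leaf 0x0) (.leaf 0x0)) (.leaf 0x0)) (.node (.leaf 0x0) (.leaf 0x0)))))))) (.node (.node (.node (.node (.node (.node (.node (.node (.leaf 0x0) (.leaf 0x0)) (.leaf 0x105900000000000000101801b)) (.node (.node (.leaf 0x91000000000000002018012) (.leaf 0x0)) (.leaf 0x0))) (.node (.node (.node (.leaf 0x0) (.leaf 0x0)) (.leaf 0x0)) (.node (.leaf 0x0) (.leaf 0x0)))) (.node (.node (.node (.node (.leaf 0x0) (.leaf 0x0)) (.leaf 0x0)) (.node (.node (.leaf 0x0) (.leaf 0x0)) (.leaf 0x0))) (.node (.node (.node (.leaf 0x0) (.leaf 0x0)) (.leaf 0x0)) (.node (.leaf 0x0) (.leaf 0x0))))) (.node (.node (.node (.node (.node (.leaf 0x0) (.leaf 0x0)) (.leaf 0x0)) (.node (.node (.leaf 0x0) (.leaf 0x0)) (.leaf 0x0))) (.node (.node (.node (.leaf 0x0) (.leaf 0x0)) (.leaf 0x0)) (.node (.leaf 0x0) (.leaf 0x0)))) (.node (.node (.node (.node (.leaf 0x0) (.leaf 0x0)) (.leaf 0x0)) (.node (.leaf 0x0) (.leaf 0x0))) (.node (.node (.node (.leaf 0x0) (.leaf 0x0)) (.leaf 0x1)) (.node (.leaf 0x0) (.leaf 0x0)))))) (.node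 (.node (.node (.node (.node (.node (.leaf 0x0) (.leaf 0x0)) (.leaf 0x0)) (.node (.node (.leaf 0x0) (.leaf 0x0)) (.leaf 0x0))) (.node (.node (.node (.leaf 0x6006810c0403000000000000) (.leaf 0x0)) (.leaf 0x0)) (.node (.leaf 0x0) (.leaf 0x0)))) (.node (.node (.node (.node (.leaf 0x0) (.leaf 0x0)) (.leaf 0x3)) (.node (.node (.leaf 0x0) (.leaf 0x0)) (.leaf 0x0))) (.node (.node (.node (.leaf 0x0) (.leaf 0x0)) (.leaf 0x0)) (.node (.leaf 0x0) (.leaf 0x0))))) (.node (.node (.node (.node (.node (.leaf 0x0) (.leaf 0x0)) (.leaf 0x301b000000000000003008008)) (.node (.node (.leaf 0x0) (.leaf 0x0)) (.leaf 0x0))) (.node (.node (.node (.leaf 0x0) (.leaf 0x0)) (.leaf 0x0)) (.node (.leaf 0x0) (.leaf 0x0)))) (.node (.node (.node (.node (.leaf 0x0) (.leaf 0x0)) (.leaf 0x0)) (.node (.leaf 0x400082000401000018000000) (.leaf 0x0))) (.node (.node (.node (.leaf 0x0) (.leaf 0x0)) (.leaf 0x0)) (.node (.leaf 0x0) (.leaf 0x0))))))) (.node (.node (.node (.node (.node (.node (.node (.leaf 0x0) (.leaf 0x0)) (.leaf 0x0)) (.node (.node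 (.leaf 0x0) (.leaf 0x0)) (.leaf 0x0))) (.node (.node (.node (.leaf 0x0) (.leaf 0x0)) (.leaf 0x0)) (.node (.leaf 0x0) (.leaf 0x0)))) (.node (.node (.node (.node (.leaf 0x0) (.leaf 0x0)) (.leaf 0x0)) (.node (.node (.leaf 0x105900000000000000101801b) (.leaf 0x0)) (.leaf 0x0))) (.node (.node (.node (.leaf 0x0) (.leaf 0x0)) (.leaf 0x0)) (.node (.leaf 0x0) (.leaf 0x0))))) (.node (.node (.node (.node (.node (.leaf 0x0) (.leaf 0x0)) (.leaf 0x200083000400000000000000)) (.node (.node (.leaf 0x0) (.leaf 0x0)) (.leaf 0x0))) (.node (.node (.node (.leaf 0x0) (.leaf 0x0)) (.leaf 0x0)) (.node (.leaf 0x0) (.leaf 0x0)))) (.node (.node (.node (.node (.leaf 0x0) (.leaf 0x0)) (.leaf 0x0)) (.node (.leaf 0x0) (.leaf 0x0))) (.node (.node (.node (.leaf 0x0) (.leaf 0x0)) (.leaf 0x0)) (.node (.leaf 0x0) (.leaf 0x0)))))) (.node (.node (.node (.node (.node (.node (.leaf 0x0) (.leaf 0x0)) (.leaf 0x0)) (.node (.node (.leaf 0x0) (.leaf 0x0)) (.leaf 0x0))) (.node (.node (.node (.leaf 0x0) (.leaf 0x0)) (.leaf 0x0)) (.node (.leaf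 0x0) (.leaf 0x0)))) (.node (.node (.node (.node (.leaf 0x0) (.leaf 0x0)) (.leaf 0x600681000400000000000000)) (.node (.leaf 0x0) (.leaf 0x2012000000000000002010013))) (.node (.node (.node (.leaf 0x18000000000000) (.leaf 0x0)) (.leaf 0x0)) (.node (.leaf 0x0) (.leaf 0x0))))) (.node (.node (.node (.node (.node (.leaf 0x0) (.leaf 0x0)) (.leaf 0x0)) (.node (.node (.leaf 0x0) (.leaf 0x0)) (.leaf 0x0))) (.node (.node (.node (.leaf 0x0) (.leaf 0x0)) (.leaf 0x0)) (.node (.leaf 0x58000000000000000000003) (.leaf 0x0)))) (.node (.node (.node (.node (.leaf 0x0) (.leaf 0x100900000000000000101801a)) (.leaf 0x0)) (.node (.leaf 0x0) (.leaf 0x1009000000000000001018018))) (.node (.node (.node (.leaf 0x0) (.leaf 0x0)) (.leaf 0x0)) (.node (.leaf 0x0) (.leaf 0x0)))))))))))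
noncomputable def p2om : ℕ := 0x80480000000000200080400000000000000000040000000000
noncomputable def p2mom : ℕ := 0x3fffffffffffffffffffffffff
noncomputable def p2tm : ℕ := 0xc2709c2709c2709c2709c2709c2709c2709c2709c2709c2709c2709c26fcb9708c2709beee4c2709c0f02c2709c2709c2709c2709c2709c2709c2709c2709c2709c2709b0accc2709c26cac2709c26dab6309c2709c2709c2709c2709c2709c2709c2709c2709c2709c2709c2709c26a3c2709c2709c2709afb09c2709c2709c2709c2709c2709ad6b4c25af438dc1b86b19cda3545f4711b15908324c12e84c110ac2911845c9d0d42c3b5404bc72031113e8df2187707709c25c436c6d1a866364d41790b4245541cc8300b912c432aca33f8fb270340ad2e3d4f31c40b6c0f2394ca1d416c2709c25ba1b069194d834c5d4f539150cd31cbf2e04a108aa2894d5309b0cc2a6c9464f87002885714e21f99762309c2709c25e21a0644b17f17174188534197a165161247b5ec4f5d9b649c321e83b615c80887907015701bb66021c2709c2709c25dd18cd73485b4f06114905318584552b104a9139b55951f494290e9cb585240241b051be58d8607b09c2709c2709c25d54350c1690a180514d529481b112040400ff3f4f9718310a0394fd2d6358b068137cde91d002c2709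c2709c2709c260d344d64ed4533ccc3152a2dd786d0a848d442c49a5bdca3b14224d816fc843dd69245ed78709c2709c2709c2709c2606341734e0ce32ce42f8b66dd7738ca15d4b0265c95b4eb610926f17e20cf65a0907b1dcc2709c2709c2709c2709c25ce46919141ae310572d4470fca728195591c1651900e1ee7a82002019764de2087600709c2709c2709c2709c2709c261a4dd3a411796cd1452d725c5c75c1345293260cea609317c5eb68cf08620e76dd6c2709c2709c2709c2709c2709c25fe4d9036e15a44c460f9cc565434cd490c0273a5414c1e4779563be1081dd754f09c2709c2709c2709c2709c2709c25f570cc32f5c264d8f2984d7bde82602f099da6456007c0774c12659871e000c2709c2709c2709c2709c2709c2709c263b308bc2d102404a527cfc3e097521473a0f43c61782e393ba368ca207ff09c2709c2709c2709c2709c2709c2709c26282ecb34a17d675bd67caf499f279da485a0c230e12061b59c8b749cfc2709c2709c2709c2709c2709c2709c2709c26222c8450f5b95619e2b91e78ddf55e128214f0188080166221d062709c2709c2709c2709c2709c2709c2709c2709c264b6017c4891d448ad25a1482a388d6314410f1fe3c3747d8b226c2709c2709c2709c2709c2709c2709c2709c2709c26460f1f0795ad6ae13649d80de048758c744180462e8a55e5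5709c2709c2709c2709c2709c2709c2709c2709c2709c2641799e06b1aa825d46383687e027358a05c108ae2357554c2709c2709c2709c2709c2709c2709c2709c2709c2709c265527a1583c954856c8659c23c8a38227689a1225f97db09c2709c2709c2709c2709c2709c2709c2709c2709c2709c2652846052502e095fd66c8e5380588552664877ddfac2709c2709c2709c2709c2709c2709c2709c2709c2709c2709c266d8de3480e1e39e3f8f6258b5a59be4e9324492309c2709c2709c2709c2709c2709c2709c2709c2709c2709c2709c266a8be1c804e68fa308aa2458a669363392642c2709c2709c2709c2709c2709c2709c2709c2709c2709c2709c2709c26685b96b8e96a2359a6824a9415f1f25b96309c2709c2709c2709c2709c2709c2709c2709c2709c2709c2709c2709c26610902d6a5a77f1f891c0f9725657151c2709c2709c2709c2709c2709c2709c2709c2709c2709c2709c2709c2709c265e08da8699f47ee4003a5994d5b54309c2709c2709c2709c2709c2709c2709c2709c2709c2709c2709c2709c2709c26879ba6591643a26889c26b1cc0dc2709c2709c2709c2709c2709c2709c2709c2709c2709c2709c2709c2709c2709c268393e5a95e6ca16849ca6399309c2709c2709c2709c2709c2709c2709c2709c2709c2709c2709c2709c2709c2709c2674952519a67599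e7198a5fc2709c2709c2709c2709c2709c2709c2709c2709c2709c2709c2709c2709c2709c2709c26810106f9827f9f67c9eb09c2709c2709c2709c2709c2709c2709c2709c2709c2709c2709c2709c2709c2709c2709c267600e5d9fa799ee78c2709c2709c2709c2709c2709c2709c2709c2709c2709c2709c2709c2709c2709c2709c2709c2699a1a98a5e96a5709c2709c2709c2709c2709c2709c2709c2709c2709c2709c2709c2709c2709c2709c2709c2709c2694a0a73a4e92c2709c2709c2709c2709c2709c2709c2709c2709c2709c2709c2709c2709c2709c2709c2709c2709c2691a428fa3b09c2709c2709c2709c2709c2709c2709c2709c2709c2709c2709c2709c2709c2709c2709c2709c2709c268da0277c2709c2709c2709c2709c2709c2709c2709c2709c2709c2709c2709c2709c2709c2709c2709c2709c2709c268ca2f09c2709c2709c2709c2709c2709c2709c2709c2709c2709c2709c2709c2709c2709c2709c2709c2709c2709c268ac2709c2709c2709c2709c2709c2709c2709c2709c2709c2709c2709c2709c2709c2709c2709c2709c2709c2709c2709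
noncomputable def p2par : ℕ := 0xb5d69ed3567ab7568720e21c23806f8be1762e84c09712c2543904c096098d10e32f82f43892b2521c0850bc2a0684bc1532a2680969082f45e4aa9542f6830cf9c242297d2f2395409ed52b5c508a00e24585a315e192cc58eed5a0424
noncomputable def p2z : Desc := ⟨0,0,0,0,[],[]⟩
noncomputable def p2ds : Tr Desc := (.node (.node (.node (.node (.node (.node (.node (.node (.node (.node (.node (.leaf p2z) (.leaf ⟨1,0x19,20,9,[],[]⟩)) (.leaf p2z)) (.node (.node (.leaf p2z) (.leaf ⟨1,0x22,19,3,[],[]⟩)) (.leaf p2z))) (.node (.node (.node (.leaf p2z) (.leaf ⟨1,0x1b,5,1,[],[]⟩)) (.leaf ⟨0,10,0,0,[],[]⟩)) (.node (.node (.leaf p2z) (.leaf p2z)) (.leaf ⟨1,0x10,9,8,[],[]⟩)))) (.node (.node (.node (.node (.leaf p2z) (.leaf ⟨1,0x1a,15,3,[],[]⟩)) (.leaf p2z)) (.node (.node (.leaf p2z) (.leaf ⟨1,0x24,9,1,[],[]⟩)) (.leaf ⟨0,1,0,0,[],[]⟩))) (.node (.node (.node (.leaf p2z) (.leaf ⟨1,0x1d,1,1,[],[]⟩)) (.leaf ⟨1,0xc,6,1,[],[]⟩)) (.node (.node (.leaf ⟨1,0x7,5,4,[],[]⟩) (.leaf p2z)) (.leaf p2z))))) (.node (.node (.node (.node (.node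 (.leaf p2z) (.leaf ⟨1,0x1c,16,1,[],[]⟩)) (.leaf p2z)) (.node (.node (.leaf p2z) (.leaf ⟨1,0x23,12,3,[],[]⟩)) (.leaf p2z))) (.node (.node (.node (.leaf p2z) (.leaf p2z)) (.leaf ⟨0,15,0,0,[],[]⟩)) (.node (.node (.leaf ⟨0,30,0,0,[],[]⟩) (.leaf p2z)) (.leaf ⟨1,0x12,3,1,[],[]⟩)))) (.node (.node (.node (.node (.leaf p2z) (.leaf ⟨1,0x11,16,10,[],[]⟩)) (.leaf ⟨1,0xa,6,6,[],[]⟩)) (.node (.node (.leaf p2z) (.leaf p2z)) (.leaf ⟨1,0xf,13,8,[],[]⟩))) (.node (.node (.node (.leaf ⟨0,58,0,0,[],[]⟩) (.leaf ⟨1,0x21,23,5,[],[]⟩)) (.leaf p2z)) (.node (.leaf p2z) (.leaf p2z)))))) (.node (.node (.node (.node (.node (.node (.leaf p2z) (.leaf ⟨1,0x19,6,4,[],[]⟩)) (.leaf ⟨1,0xa,9,4,[],[]⟩)) (.node (.node (.leaf p2z) (.leaf ⟨1,0x22,5,1,[],[]⟩)) (.leaf ⟨1,0xe,7,6,[],[]⟩))) (.node (.node (.node (.leaf p2z) (.leaf ⟨1,0x1f,14,6,[],[]⟩)) (.leaf p2z)) (.node (.node (.leaf p2z) (.leaf ⟨2,1,0,0,[13,3],[3,13,18]⟩)) (.leaf ⟨1,0xe,11,11,[],[]⟩)))) (.node (.node (.node (.node (.leaf p2z) (.leaf p2z)) (.leaf p2z)) (.node (.node (.leaf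 ⟨0,35,0,0,[],[]⟩) (.leaf ⟨1,0x24,23,1,[],[]⟩)) (.leaf p2z))) (.node (.node (.node (.leaf p2z) (.leaf ⟨1,0x1e,11,1,[],[]⟩)) (.leaf ⟨1,0x11,15,1,[],[]⟩)) (.node (.leaf p2z) (.leaf ⟨1,0xf,14,12,[],[]⟩))))) (.node (.node (.node (.node (.node (.leaf p2z) (.leaf p2z)) (.leaf ⟨1,0x9,6,5,[],[]⟩)) (.node (.node (.leaf ⟨1,0x3,2,2,[],[]⟩) (.leaf ⟨1,0x23,30,1,[],[]⟩)) (.leaf ⟨1,0x10,8,2,[],[]⟩))) (.node (.node (.node (.leaf p2z) (.leaf ⟨1,0x13,17,16,[],[]⟩)) (.leaf p2z)) (.node (.node (.leaf p2z) (.leaf ⟨2,2,0,0,[9,2],[2,9,12,13]⟩)) (.leaf ⟨1,0x13,7,5,[],[]⟩)))) (.node (.node (.node (.node (.leaf ⟨0,38,0,0,[],[]⟩) (.leaf ⟨1,0x1e,20,10,[],[]⟩)) (.leaf p2z)) (.node (.node (.leaf p2z) (.leaf p2z)) (.leaf p2z))) (.node (.node (.node (.leaf p2z) (.leaf ⟨1,0x21,6,3,[],[]⟩)) (.leaf ⟨1,0x14,9,1,[],[]⟩)) (.node (.leaf p2z) (.leaf ⟨1,0xf,13,9,[],[]⟩))))))) (.node (.node (.node (.node (.node (.node (.node (.leaf p2z) (.leaf p2z)) (.leaf ⟨1,0xa,4,2,[],[]⟩)) (.node (.node (.leaf ⟨0,28,0,0,[],[]⟩) (.leaf ⟨1,0x22,27,3,[],[]⟩))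 (.leaf p2z))) (.node (.node (.node (.leaf p2z) (.leaf ⟨1,0x1f,10,1,[],[]⟩)) (.leaf p2z)) (.node (.node (.leaf p2z) (.leaf ⟨2,1,0,0,[5,4],[4,5,9,10,14]⟩)) (.leaf ⟨1,0x15,16,5,[],[]⟩)))) (.node (.node (.node (.node (.leaf p2z) (.leaf ⟨1,0x1d,19,4,[],[]⟩)) (.leaf p2z)) (.node (.node (.leaf p2z) (.leaf ⟨1,0x24,16,1,[],[]⟩)) (.leaf p2z))) (.node (.node (.node (.leaf p2z) (.leaf ⟨1,0x16,13,3,[],[]⟩)) (.leaf ⟨1,0xf,9,1,[],[]⟩)) (.node (.leaf ⟨1,0x7,5,5,[],[]⟩) (.leaf ⟨1,0x18,6,1,[],[]⟩))))) (.node (.node (.node (.node (.node (.leaf p2z) (.leaf ⟨1,0x13,8,8,[],[]⟩)) (.leaf p2z)) (.node (.node (.leaf p2z) (.leaf ⟨1,0x23,18,1,[],[]⟩)) (.leaf p2z))) (.node (.node (.node (.leaf p2z) (.leaf ⟨1,0x17,13,8,[],[]⟩)) (.leaf ⟨1,0x12,10,3,[],[]⟩)) (.node (.node (.leaf p2z) (.leaf p2z)) (.leaf ⟨1,0x19,6,5,[],[]⟩)))) (.node (.node (.node (.node (.leaf p2z) (.leaf ⟨1,0x1e,13,3,[],[]⟩)) (.leaf p2z)) (.node (.node (.leaf p2z) (.leaf p2z)) (.leaf ⟨1,0x17,16,3,[],[]⟩))) (.node (.node (.node (.leaf p2z) (.leaf p2z)) (.leaf ⟨1,0xb,8,4,[],[]⟩))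 (.node (.leaf ⟨1,0xd,3,1,[],[]⟩) (.leaf ⟨1,0xf,13,1,[],[]⟩)))))) (.node (.node (.node (.node (.node (.node (.leaf p2z) (.leaf ⟨1,0xc,11,7,[],[]⟩)) (.leaf p2z)) (.node (.node (.leaf p2z) (.leaf ⟨1,0x22,9,5,[],[]⟩)) (.leaf ⟨1,0x10,15,3,[],[]⟩))) (.node (.node (.node (.leaf ⟨0,53,0,0,[],[]⟩) (.leaf ⟨1,0x1d,28,5,[],[]⟩)) (.leaf p2z)) (.node (.node (.leaf ⟨1,0x6,5,1,[],[]⟩) (.leaf p2z)) (.leaf p2z)))) (.node (.node (.node (.node (.leaf p2z) (.leaf ⟨0,8,0,0,[],[]⟩)) (.leaf ⟨1,0xa,8,6,[],[]⟩)) (.node (.node (.leaf p2z) (.leaf ⟨1,0x1c,24,24,[],[]⟩)) (.leaf ⟨1,0x12,6,5,[],[]⟩))) (.node (.node (.node (.leaf p2z) (.leaf ⟨1,0x21,16,2,[],[]⟩)) (.leaf p2z)) (.node (.leaf p2z) (.leaf ⟨1,0x1a,21,1,[],[]⟩))))) (.node (.node (.node (.node (.node (.leaf p2z) (.leaf ⟨1,0x15,12,7,[],[]⟩)) (.leaf ⟨1,0xf,8,5,[],[]⟩)) (.node (.node (.leaf p2z) (.leaf ⟨1,0x23,6,4,[],[]⟩)) (.leaf ⟨1,0x10,10,8,[],[]⟩))) (.node (.node (.node (.leaf p2z) (.leaf ⟨1,0x20,21,5,[],[]⟩)) (.leaf p2z)) (.node (.node (.leaf p2z) (.leaf p2z)) (.leaf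 p2z)))) (.node (.node (.node (.node (.leaf p2z) (.leaf p2z)) (.leaf ⟨1,0x9,7,3,[],[]⟩)) (.node (.node (.leaf ⟨0,33,0,0,[],[]⟩) (.leaf p2z)) (.leaf p2z))) (.node (.node (.node (.leaf p2z) (.leaf ⟨1,0x22,10,3,[],[]⟩)) (.leaf ⟨1,0xb,8,8,[],[]⟩)) (.node (.leaf p2z) (.leaf ⟨1,0x17,17,5,[],[]⟩)))))))) (.node (.node (.node (.node (.node (.node (.node (.node (.leaf p2z) (.leaf p2z)) (.leaf p2z)) (.node (.node (.leaf ⟨1,0x3,1,1,[],[]⟩) (.leaf ⟨1,0x22,19,9,[],[]⟩)) (.leaf p2z))) (.node (.node (.node (.leaf p2z) (.leaf ⟨1,0x19,11,9,[],[]⟩)) (.leaf ⟨0,11,0,0,[],[]⟩)) (.node (.node (.leaf p2z) (.leaf p2z)) (.leaf ⟨1,0xe,12,11,[],[]⟩)))) (.node (.node (.node (.node (.leaf p2z) (.leaf ⟨1,0x1d,12,6,[],[]⟩)) (.leaf p2z)) (.node (.node (.leaf p2z) (.leaf ⟨1,0x23,16,6,[],[]⟩)) (.leaf ⟨1,0x11,6,6,[],[]⟩))) (.node (.node (.node (.leaf p2z) (.leaf p2z)) (.leaf ⟨1,0xf,5,1,[],[]⟩)) (.node (.node (.leaf ⟨0,9,0,0,[],[]⟩) (.leaf p2z)) (.leaf ⟨1,0x10,13,2,[],[]⟩))))) (.node (.node (.node (.node (.node (.leaf p2z) (.leaf ⟨0,0,0,0,[],[]⟩))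 (.leaf p2z)) (.node (.node (.leaf p2z) (.leaf ⟨1,0x23,16,3,[],[]⟩)) (.leaf p2z))) (.node (.node (.node (.leaf p2z) (.leaf ⟨1,0x1b,8,4,[],[]⟩)) (.leaf ⟨1,0xd,10,3,[],[]⟩)) (.node (.node (.leaf p2z) (.leaf p2z)) (.leaf ⟨1,0x19,3,1,[],[]⟩)))) (.node (.node (.node (.node (.leaf p2z) (.leaf ⟨1,0x1e,10,3,[],[]⟩)) (.leaf p2z)) (.node (.node (.leaf p2z) (.leaf p2z)) (.leaf ⟨1,0x14,17,3,[],[]⟩))) (.node (.node (.node (.leaf ⟨0,61,0,0,[],[]⟩) (.leaf ⟨1,0x21,27,1,[],[]⟩)) (.leaf p2z)) (.node (.leaf ⟨1,0x8,5,3,[],[]⟩) (.leaf p2z)))))) (.node (.node (.node (.node (.node (.node (.leaf p2z) (.leaf ⟨1,0x17,8,1,[],[]⟩)) (.leaf ⟨1,0x9,4,4,[],[]⟩)) (.node (.node (.leaf p2z) (.leaf ⟨1,0x21,9,5,[],[]⟩)) (.leaf ⟨1,0x10,11,3,[],[]⟩))) (.node (.node (.node (.leaf p2z) (.leaf ⟨1,0x1f,18,1,[],[]⟩)) (.leaf p2z)) (.node (.node (.leaf p2z) (.leaf p2z)) (.leaf p2z)))) (.node (.node (.node (.node (.leaf p2z) (.leaf p2z)) (.leaf ⟨1,0xa,6,4,[],[]⟩)) (.node (.node (.leaf ⟨0,24,0,0,[],[]⟩) (.leaf ⟨1,0x24,29,1,[],[]⟩)) (.leaf ⟨1,0xf,8,1,[],[]⟩)))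 (.node (.node (.node (.leaf p2z) (.leaf ⟨1,0x1e,15,1,[],[]⟩)) (.leaf p2z)) (.node (.leaf p2z) (.leaf ⟨1,0x14,18,10,[],[]⟩))))) (.node (.node (.node (.node (.node (.leaf p2z) (.leaf ⟨1,0x16,9,3,[],[]⟩)) (.leaf ⟨1,0xf,5,3,[],[]⟩)) (.node (.node (.leaf p2z) (.leaf p2z)) (.leaf ⟨1,0x13,6,3,[],[]⟩))) (.node (.node (.node (.leaf p2z) (.leaf ⟨1,0x1b,20,8,[],[]⟩)) (.leaf p2z)) (.node (.node (.leaf p2z) (.leaf p2z)) (.leaf ⟨1,0x19,20,3,[],[]⟩)))) (.node (.node (.node (.node (.leaf p2z) (.leaf ⟨1,0x17,9,9,[],[]⟩)) (.leaf p2z)) (.node (.node (.leaf ⟨1,0x5,4,2,[],[]⟩) (.leaf p2z)) (.leaf p2z))) (.node (.node (.node (.leaf p2z) (.leaf ⟨1,0x19,21,10,[],[]⟩)) (.leaf ⟨1,0x10,15,2,[],[]⟩)) (.node (.leaf p2z) (.leaf ⟨1,0x14,13,9,[],[]⟩))))))) (.node (.node (.node (.node (.node (.node (.node (.leaf p2z) (.leaf p2z)) (.leaf ⟨0,22,0,0,[],[]⟩)) (.node (.node (.leaf p2z) (.leaf ⟨1,0x16,18,18,[],[]⟩)) (.leaf ⟨1,0xf,4,3,[],[]⟩))) (.node (.node (.node (.leaf p2z) (.leaf ⟨1,0x1c,17,5,[],[]⟩)) (.leaf p2z)) (.node (.node (.leaf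 p2z) (.leaf ⟨2,1,0,0,[10,3],[3,10,14]⟩)) (.leaf ⟨1,0x15,20,5,[],[]⟩)))) (.node (.node (.node (.node (.leaf ⟨0,48,0,0,[],[]⟩) (.leaf ⟨1,0x1d,23,5,[],[]⟩)) (.leaf p2z)) (.node (.node (.leaf p2z) (.leaf ⟨1,0x24,21,5,[],[]⟩)) (.leaf p2z))) (.node (.node (.node (.leaf p2z) (.leaf ⟨1,0x1d,7,2,[],[]⟩)) (.leaf ⟨0,4,0,0,[],[]⟩)) (.node (.leaf p2z) (.leaf ⟨1,0x10,13,10,[],[]⟩))))) (.node (.node (.node (.node (.node (.leaf p2z) (.leaf p2z)) (.leaf ⟨1,0x9,6,1,[],[]⟩)) (.node (.node (.leaf ⟨1,0x4,3,2,[],[]⟩) (.leaf ⟨1,0x23,26,3,[],[]⟩)) (.leaf p2z))) (.node (.node (.node (.leaf p2z) (.leaf ⟨1,0x20,9,1,[],[]⟩)) (.leaf ⟨1,0x9,8,8,[],[]⟩)) (.node (.node (.leaf p2z) (.leaf p2z)) (.leaf ⟨1,0x12,15,1,[],[]⟩)))) (.node (.node (.node (.node (.leaf p2z) (.leaf ⟨1,0x1e,16,8,[],[]⟩)) (.leaf p2z)) (.node (.node (.leaf p2z) (.leaf p2z)) (.leaf p2z))) (.node (.node (.node (.leaf p2z) (.leaf ⟨1,0x20,4,2,[],[]⟩)) (.leaf ⟨1,0x10,8,1,[],[]⟩)) (.node (.leaf ⟨1,0xb,10,1,[],[]⟩) (.leaf ⟨1,0x14,9,5,[],[]⟩)))))) (.node (.node (.node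 (.node (.node (.node (.leaf p2z) (.leaf ⟨1,0x17,16,1,[],[]⟩)) (.leaf p2z)) (.node (.node (.leaf p2z) (.leaf ⟨1,0x23,10,1,[],[]⟩)) (.leaf ⟨1,0x15,11,7,[],[]⟩))) (.node (.node (.node (.leaf p2z) (.leaf p2z)) (.leaf ⟨1,0xc,4,2,[],[]⟩)) (.node (.node (.leaf ⟨1,0x6,5,5,[],[]⟩) (.leaf p2z)) (.leaf p2z)))) (.node (.node (.node (.node (.leaf p2z) (.leaf ⟨1,0x1b,6,3,[],[]⟩)) (.leaf ⟨1,0x10,9,1,[],[]⟩)) (.node (.node (.leaf p2z) (.leaf p2z)) (.leaf ⟨0,12,0,0,[],[]⟩))) (.node (.node (.node (.leaf p2z) (.leaf ⟨1,0x21,18,6,[],[]⟩)) (.leaf p2z)) (.node (.leaf p2z) (.leaf ⟨1,0x11,11,11,[],[]⟩))))) (.node (.node (.node (.node (.node (.leaf p2z) (.leaf ⟨1,0x1d,6,5,[],[]⟩)) (.leaf p2z)) (.node (.node (.leaf p2z) (.leaf ⟨1,0x24,4,2,[],[]⟩)) (.leaf ⟨1,0xf,14,7,[],[]⟩))) (.node (.node (.node (.leaf ⟨0,36,0,0,[],[]⟩) (.leaf ⟨1,0x20,23,1,[],[]⟩)) (.leaf p2z)) (.node (.node (.leaf p2z) (.leaf p2z)) (.leaf p2z)))) (.node (.node (.node (.node (.leaf p2z) (.leaf ⟨1,0x1a,2,1,[],[]⟩)) (.leaf ⟨1,0x11,3,1,[],[]⟩)) (.node (.node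 (.leaf ⟨0,43,0,0,[],[]⟩) (.leaf p2z)) (.leaf ⟨1,0x10,9,4,[],[]⟩))) (.node (.node (.node (.leaf p2z) (.leaf ⟨1,0x22,13,3,[],[]⟩)) (.leaf p2z)) (.node (.leaf p2z) (.leaf ⟨1,0x1b,14,6,[],[]⟩))))))))) (.node (.node (.node (.node (.node (.node (.node (.node (.node (.leaf p2z) (.leaf ⟨1,0x12,11,11,[],[]⟩)) (.leaf p2z)) (.node (.node (.leaf p2z) (.leaf ⟨1,0x21,24,3,[],[]⟩)) (.leaf p2z))) (.node (.node (.node (.leaf p2z) (.leaf ⟨1,0xc,7,6,[],[]⟩)) (.leaf ⟨1,0x11,10,1,[],[]⟩)) (.node (.node (.leaf p2z) (.leaf p2z)) (.leaf ⟨1,0x15,10,5,[],[]⟩)))) (.node (.node (.node (.node (.leaf p2z) (.leaf ⟨1,0x1d,12,3,[],[]⟩)) (.leaf p2z)) (.node (.node (.leaf p2z) (.leaf ⟨1,0x24,10,3,[],[]⟩)) (.leaf ⟨1,0x16,16,1,[],[]⟩))) (.node (.node (.node (.leaf p2z) (.leaf p2z)) (.leaf ⟨1,0xc,6,3,[],[]⟩)) (.node (.node (.leaf ⟨0,20,0,0,[],[]⟩) (.leaf p2z)) (.leaf p2z))))) (.node (.node (.node (.node (.node (.leaf p2z) (.leaf ⟨1,0x17,22,1,[],[]⟩)) (.leaf p2z)) (.node (.node (.leaf p2z) (.leaf ⟨1,0x23,15,1,[],[]⟩)) (.leaf p2z))) (.node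 (.node (.node (.leaf p2z) (.leaf ⟨1,0x1d,2,1,[],[]⟩)) (.leaf ⟨1,0xd,8,3,[],[]⟩)) (.node (.node (.leaf ⟨0,45,0,0,[],[]⟩) (.leaf p2z)) (.leaf ⟨1,0x12,5,1,[],[]⟩)))) (.node (.node (.node (.node (.leaf p2z) (.leaf ⟨1,0x1e,9,1,[],[]⟩)) (.leaf p2z)) (.node (.node (.leaf p2z) (.leaf p2z)) (.leaf ⟨1,0x14,15,3,[],[]⟩))) (.node (.node (.node (.leaf ⟨0,60,0,0,[],[]⟩) (.leaf ⟨1,0x21,24,7,[],[]⟩)) (.leaf p2z)) (.node (.leaf ⟨1,0x8,5,1,[],[]⟩) (.leaf p2z)))))) (.node (.node (.node (.node (.node (.node (.leaf p2z) (.leaf ⟨1,0x17,6,1,[],[]⟩)) (.leaf ⟨1,0xe,7,5,[],[]⟩)) (.node (.node (.leaf p2z) (.leaf ⟨1,0x19,24,3,[],[]⟩)) (.leaf ⟨1,0xb,9,3,[],[]⟩))) (.node (.node (.node (.leaf p2z) (.leaf ⟨1,0x1f,15,8,[],[]⟩)) (.leaf p2z)) (.node (.node (.leaf p2z) (.leaf p2z)) (.leaf p2z)))) (.node (.node (.node (.node (.leaf p2z) (.leaf p2z)) (.leaf ⟨1,0xa,6,2,[],[]⟩)) (.node (.node (.leaf ⟨1,0x5,5,3,[],[]⟩) (.leaf ⟨1,0x24,27,3,[],[]⟩)) (.leaf p2z))) (.node (.node (.node (.leaf p2z) (.leaf ⟨1,0x21,10,1,[],[]⟩)) (.leaf ⟨1,0xc,6,6,[],[]⟩))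 (.node (.leaf p2z) (.leaf ⟨1,0x14,16,10,[],[]⟩))))) (.node (.node (.node (.node (.node (.leaf p2z) (.leaf ⟨0,5,0,0,[],[]⟩)) (.leaf ⟨1,0xf,3,1,[],[]⟩)) (.node (.node (.leaf p2z) (.leaf ⟨1,0x19,24,24,[],[]⟩)) (.leaf ⟨1,0x11,6,4,[],[]⟩))) (.node (.node (.node (.leaf p2z) (.leaf ⟨1,0x20,13,3,[],[]⟩)) (.leaf p2z)) (.node (.node (.leaf p2z) (.leaf p2z)) (.leaf ⟨1,0x19,14,6,[],[]⟩)))) (.node (.node (.node (.node (.leaf ⟨0,49,0,0,[],[]⟩) (.leaf ⟨1,0x1c,27,3,[],[]⟩)) (.leaf p2z)) (.node (.node (.leaf p2z) (.leaf p2z)) (.leaf p2z))) (.node (.node (.node (.leaf p2z) (.leaf ⟨1,0x22,4,2,[],[]⟩)) (.leaf ⟨1,0x10,14,1,[],[]⟩)) (.node (.leaf p2z) (.leaf ⟨1,0x1b,6,5,[],[]⟩))))))) (.node (.node (.node (.node (.node (.node (.node (.leaf p2z) (.leaf p2z)) (.leaf ⟨1,0xa,4,3,[],[]⟩)) (.node (.node (.leaf ⟨0,37,0,0,[],[]⟩) (.leaf ⟨1,0x22,29,1,[],[]⟩)) (.leaf ⟨1,0xe,6,1,[],[]⟩))) (.node (.node (.node (.leaf p2z) (.leaf ⟨1,0x1c,15,5,[],[]⟩)) (.leaf p2z)) (.node (.node (.leaf p2z) (.leaf p2z)) (.leaf ⟨1,0x18,13,3,[],[]⟩))))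 (.node (.node (.node (.node (.leaf p2z) (.leaf ⟨1,0x1a,25,3,[],[]⟩)) (.leaf p2z)) (.node (.node (.leaf p2z) (.leaf ⟨1,0x24,19,3,[],[]⟩)) (.leaf p2z))) (.node (.node (.node (.leaf p2z) (.leaf ⟨1,0x1e,5,1,[],[]⟩)) (.leaf ⟨1,0xf,11,1,[],[]⟩)) (.node (.leaf p2z) (.leaf ⟨1,0x10,13,8,[],[]⟩))))) (.node (.node (.node (.node (.node (.leaf p2z) (.leaf p2z)) (.leaf p2z)) (.node (.node (.leaf ⟨1,0x4,2,1,[],[]⟩) (.leaf ⟨1,0x22,27,5,[],[]⟩)) (.leaf p2z))) (.node (.node (.node (.leaf p2z) (.leaf ⟨1,0x16,12,10,[],[]⟩)) (.leaf ⟨1,0x10,13,3,[],[]⟩)) (.node (.node (.leaf p2z) (.leaf ⟨2,2,0,0,[3,1],[1,3,7]⟩)) (.leaf ⟨1,0x19,10,1,[],[]⟩)))) (.node (.node (.node (.node (.leaf p2z) (.leaf ⟨1,0x1e,13,6,[],[]⟩)) (.leaf p2z)) (.node (.node (.leaf p2z) (.leaf p2z)) (.leaf ⟨1,0x12,6,6,[],[]⟩))) (.node (.node (.node (.leaf p2z) (.leaf p2z)) (.leaf ⟨1,0x10,6,1,[],[]⟩)) (.node (.leaf ⟨1,0xd,5,3,[],[]⟩) (.leaf ⟨1,0x14,9,3,[],[]⟩)))))) (.node (.node (.node (.node (.node (.node (.leaf p2z) (.leaf ⟨1,0x1c,10,3,[],[]⟩)) (.leaf p2z))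 (.node (.node (.leaf p2z) (.leaf ⟨1,0x21,11,9,[],[]⟩)) (.leaf ⟨1,0x15,9,7,[],[]⟩))) (.node (.node (.node (.leaf p2z) (.leaf ⟨1,0x13,13,13,[],[]⟩)) (.leaf p2z)) (.node (.node (.leaf ⟨1,0x6,5,3,[],[]⟩) (.leaf p2z)) (.leaf p2z)))) (.node (.node (.node (.node (.leaf p2z) (.leaf ⟨1,0x18,8,4,[],[]⟩)) (.leaf ⟨1,0x10,5,4,[],[]⟩)) (.node (.node (.leaf p2z) (.leaf ⟨0,62,0,0,[],[]⟩)) (.leaf ⟨1,0x13,7,4,[],[]⟩))) (.node (.node (.node (.leaf p2z) (.leaf ⟨1,0x21,14,6,[],[]⟩)) (.leaf p2z)) (.node (.leaf p2z) (.leaf ⟨1,0x1a,21,5,[],[]⟩))))) (.node (.node (.node (.node (.node (.leaf p2z) (.leaf ⟨1,0x1a,9,3,[],[]⟩)) (.leaf ⟨1,0x9,6,6,[],[]⟩)) (.node (.node (.leaf p2z) (.leaf ⟨1,0x22,11,6,[],[]⟩)) (.leaf ⟨1,0xf,12,7,[],[]⟩))) (.node (.node (.node (.leaf ⟨0,54,0,0,[],[]⟩) (.leaf ⟨1,0x1d,26,1,[],[]⟩)) (.leaf p2z)) (.node (.node (.leaf p2z) (.leaf p2z)) (.leaf p2z)))) (.node (.node (.node (.node (.leaf p2z) (.leaf p2z)) (.leaf ⟨1,0xe,5,1,[],[]⟩)) (.node (.node (.leaf ⟨0,27,0,0,[],[]⟩) (.leaf p2z)) (.leaf ⟨1,0x15,5,2,[],[]⟩)))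 (.node (.node (.node (.leaf p2z) (.leaf ⟨1,0x1c,16,14,[],[]⟩)) (.leaf p2z)) (.node (.leaf p2z) (.leaf ⟨1,0x17,19,5,[],[]⟩)))))))) (.node (.node (.node (.node (.node (.node (.node (.node (.leaf p2z) (.leaf p2z)) (.leaf p2z)) (.node (.node (.leaf ⟨1,0x3,3,1,[],[]⟩) (.leaf ⟨1,0x22,23,1,[],[]⟩)) (.leaf p2z))) (.node (.node (.node (.leaf p2z) (.leaf ⟨1,0x1b,11,1,[],[]⟩)) (.leaf ⟨1,0x9,7,7,[],[]⟩)) (.node (.node (.leaf p2z) (.leaf p2z)) (.leaf ⟨1,0x18,10,3,[],[]⟩)))) (.node (.node (.node (.node (.leaf p2z) (.leaf ⟨1,0x1d,16,3,[],[]⟩)) (.leaf p2z)) (.node (.node (.leaf p2z) (.leaf ⟨1,0x24,13,3,[],[]⟩)) (.leaf p2z))) (.node (.node (.node (.leaf p2z) (.leaf ⟨1,0x1a,8,1,[],[]⟩)) (.leaf ⟨1,0x13,3,1,[],[]⟩)) (.node (.node (.leaf ⟨1,0xa,9,1,[],[]⟩) (.leaf p2z)) (.leaf ⟨1,0xf,12,4,[],[]⟩))))) (.node (.node (.node (.node (.node (.leaf ⟨0,46,0,0,[],[]⟩) (.leaf ⟨1,0x1a,25,6,[],[]⟩)) (.leaf p2z)) (.node (.node (.leaf p2z) (.leaf ⟨1,0x23,20,3,[],[]⟩)) (.leaf p2z))) (.node (.node (.node (.leaf p2z) (.leaf ⟨1,0x1d,6,1,[],[]⟩))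 (.leaf ⟨1,0x12,7,5,[],[]⟩)) (.node (.node (.leaf p2z) (.leaf ⟨0,65,0,0,[],[]⟩)) (.leaf ⟨1,0x19,5,3,[],[]⟩)))) (.node (.node (.node (.node (.leaf p2z) (.leaf ⟨1,0x16,16,10,[],[]⟩)) (.leaf p2z)) (.node (.node (.leaf p2z) (.leaf p2z)) (.leaf ⟨1,0x17,11,7,[],[]⟩))) (.node (.node (.node (.leaf p2z) (.leaf ⟨1,0x1e,1,1,[],[]⟩)) (.leaf ⟨1,0xd,6,2,[],[]⟩)) (.node (.leaf ⟨1,0xa,5,1,[],[]⟩) (.leaf p2z)))))) (.node (.node (.node (.node (.node (.node (.leaf p2z) (.leaf ⟨1,0x16,10,2,[],[]⟩)) (.leaf p2z)) (.node (.node (.leaf p2z) (.leaf ⟨1,0x23,3,1,[],[]⟩)) (.leaf ⟨1,0xe,13,6,[],[]⟩))) (.node (.node (.node (.leaf ⟨0,51,0,0,[],[]⟩) (.leaf ⟨1,0x1c,27,5,[],[]⟩)) (.leaf p2z)) (.node (.node (.leaf p2z) (.leaf p2z)) (.leaf p2z)))) (.node (.node (.node (.node (.leaf p2z) (.leaf p2z)) (.leaf ⟨1,0xb,6,4,[],[]⟩)) (.node (.node (.leaf ⟨1,0x5,3,3,[],[]⟩) (.leaf ⟨1,0x24,33,3,[],[]⟩)) (.leaf ⟨1,0xf,8,3,[],[]⟩))) (.node (.node (.node (.leaf p2z) (.leaf ⟨1,0x1e,17,1,[],[]⟩)) (.leaf p2z)) (.node (.leaf p2z) (.leaf ⟨1,0x1a,16,1,[],[]⟩)))))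 (.node (.node (.node (.node (.node (.leaf p2z) (.leaf ⟨1,0x11,15,5,[],[]⟩)) (.leaf ⟨1,0xf,6,5,[],[]⟩)) (.node (.node (.leaf p2z) (.leaf ⟨1,0x23,6,2,[],[]⟩)) (.leaf ⟨1,0x16,4,1,[],[]⟩))) (.node (.node (.node (.leaf p2z) (.leaf ⟨1,0x1d,22,1,[],[]⟩)) (.leaf p2z)) (.node (.node (.leaf p2z) (.leaf p2z)) (.leaf ⟨1,0xc,8,8,[],[]⟩)))) (.node (.node (.node (.node (.leaf p2z) (.leaf p2z)) (.leaf ⟨1,0xa,7,1,[],[]⟩)) (.node (.node (.leaf ⟨1,0x5,4,4,[],[]⟩) (.leaf p2z)) (.leaf p2z))) (.node (.node (.node (.leaf p2z) (.leaf ⟨1,0x22,9,1,[],[]⟩)) (.leaf ⟨1,0x12,16,1,[],[]⟩)) (.node (.leaf p2z) (.leaf ⟨1,0x14,15,9,[],[]⟩))))))) (.node (.node (.node (.node (.node (.node (.node (.leaf p2z) (.leaf ⟨1,0x19,6,2,[],[]⟩)) (.leaf ⟨1,0xa,8,3,[],[]⟩)) (.node (.node (.leaf p2z) (.leaf p2z)) (.leaf ⟨1,0xe,6,5,[],[]⟩))) (.node (.node (.node (.leaf p2z) (.leaf ⟨1,0x1f,15,1,[],[]⟩)) (.leaf p2z)) (.node (.node (.leaf p2z) (.leaf p2z)) (.leaf ⟨1,0x18,19,3,[],[]⟩)))) (.node (.node (.node (.node (.leaf p2z) (.leaf ⟨1,0x11,15,15,[],[]⟩))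 (.leaf p2z)) (.node (.node (.leaf ⟨1,0x5,3,1,[],[]⟩) (.leaf ⟨1,0x23,26,6,[],[]⟩)) (.leaf p2z))) (.node (.node (.node (.leaf p2z) (.leaf ⟨1,0x14,17,9,[],[]⟩)) (.leaf ⟨1,0x13,11,3,[],[]⟩)) (.node (.leaf p2z) (.leaf ⟨1,0x1a,9,1,[],[]⟩))))) (.node (.node (.node (.node (.node (.leaf p2z) (.leaf p2z)) (.leaf ⟨1,0x9,6,3,[],[]⟩)) (.node (.node (.leaf ⟨1,0x6,4,2,[],[]⟩) (.leaf ⟨1,0x23,27,1,[],[]⟩)) (.leaf p2z))) (.node (.node (.node (.leaf p2z) (.leaf ⟨1,0x1a,14,7,[],[]⟩)) (.leaf p2z)) (.node (.node (.leaf p2z) (.leaf ⟨0,67,0,0,[],[]⟩)) (.leaf ⟨1,0x12,17,1,[],[]⟩)))) (.node (.node (.node (.node (.leaf p2z) (.leaf ⟨1,0x1b,24,3,[],[]⟩)) (.leaf p2z)) (.node (.node (.leaf p2z) (.leaf ⟨2,0,0,0,[14,6],[6,14,21]⟩)) (.leaf p2z))) (.node (.node (.node (.leaf p2z) (.leaf ⟨1,0x1e,7,4,[],[]⟩)) (.leaf ⟨1,0x10,10,1,[],[]⟩)) (.node (.leaf ⟨1,0x8,5,5,[],[]⟩) (.leaf ⟨1,0x17,7,5,[],[]⟩)))))) (.node (.node (.node (.node (.node (.node (.leaf p2z) (.leaf ⟨1,0x1c,13,3,[],[]⟩)) (.leaf p2z)) (.node (.node (.leaf p2z) (.leaf ⟨1,0x22,15,5,[],[]⟩))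 (.leaf ⟨1,0xe,6,6,[],[]⟩))) (.node (.node (.node (.leaf p2z) (.leaf p2z)) (.leaf ⟨1,0x9,8,4,[],[]⟩)) (.node (.node (.leaf ⟨1,0xb,3,1,[],[]⟩) (.leaf p2z)) (.leaf ⟨1,0x11,2,1,[],[]⟩)))) (.node (.node (.node (.node (.leaf p2z) (.leaf ⟨1,0x15,13,8,[],[]⟩)) (.leaf ⟨0,17,0,0,[],[]⟩)) (.node (.node (.leaf p2z) (.leaf p2z)) (.leaf ⟨1,0x15,11,2,[],[]⟩))) (.node (.node (.node (.leaf p2z) (.leaf ⟨1,0x21,18,1,[],[]⟩)) (.leaf p2z)) (.node (.leaf p2z) (.leaf p2z))))) (.node (.node (.node (.node (.node (.leaf p2z) (.leaf ⟨1,0x16,13,9,[],[]⟩)) (.leaf p2z)) (.node (.node (.leaf p2z) (.leaf ⟨1,0x22,11,10,[],[]⟩)) (.leaf ⟨1,0x13,16,3,[],[]⟩))) (.node (.node (.node (.leaf ⟨0,56,0,0,[],[]⟩) (.leaf ⟨1,0x20,27,3,[],[]⟩)) (.leaf p2z)) (.node (.node (.leaf ⟨1,0x7,5,2,[],[]⟩) (.leaf p2z)) (.leaf p2z)))) (.node (.node (.node (.node (.leaf p2z) (.leaf ⟨1,0x19,11,3,[],[]⟩)) (.leaf ⟨1,0xc,9,3,[],[]⟩)) (.node (.node (.leaf p2z) (.leaf p2z)) (.leaf ⟨1,0x15,6,5,[],[]⟩))) (.node (.node (.node (.leaf p2z) (.leaf ⟨1,0x22,16,1,[],[]⟩))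 (.leaf p2z)) (.node (.leaf p2z) (.leaf ⟨1,0x1b,18,6,[],[]⟩)))))))))) (.node (.node (.node (.node (.node (.node (.node (.node (.node (.node (.leaf p2z) (.leaf ⟨1,0x1b,19,9,[],[]⟩)) (.leaf p2z)) (.node (.node (.leaf p2z) (.leaf ⟨1,0x22,20,3,[],[]⟩)) (.leaf p2z))) (.node (.node (.node (.leaf p2z) (.leaf ⟨1,0x1b,6,1,[],[]⟩)) (.leaf ⟨1,0x11,9,1,[],[]⟩)) (.node (.node (.leaf p2z) (.leaf p2z)) (.leaf ⟨1,0x15,9,5,[],[]⟩)))) (.node (.node (.node (.node (.leaf p2z) (.leaf ⟨1,0x1d,10,6,[],[]⟩)) (.leaf p2z)) (.node (.node (.leaf p2z) (.leaf ⟨1,0x24,10,1,[],[]⟩)) (.leaf ⟨1,0x16,15,1,[],[]⟩))) (.node (.node (.node (.leaf p2z) (.leaf p2z)) (.leaf ⟨1,0xc,6,2,[],[]⟩)) (.node (.node (.leaf ⟨1,0x9,5,1,[],[]⟩) (.leaf p2z)) (.leaf p2z))))) (.node (.node (.node (.node (.node (.leaf p2z) (.leaf ⟨1,0x1c,16,3,[],[]⟩)) (.leaf p2z)) (.node (.node (.leaf p2z) (.leaf ⟨1,0x23,13,3,[],[]⟩)) (.leaf p2z))) (.node (.node (.node (.leaf p2z) (.leaf ⟨1,0x1a,7,1,[],[]⟩)) (.leaf ⟨1,0xc,7,4,[],[]⟩)) (.node (.node (.leaf ⟨0,34,0,0,[],[]⟩)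 (.leaf p2z)) (.leaf ⟨1,0x11,4,2,[],[]⟩)))) (.node (.node (.node (.node (.leaf p2z) (.leaf ⟨1,0x1e,6,5,[],[]⟩)) (.leaf p2z)) (.node (.node (.leaf p2z) (.leaf p2z)) (.leaf ⟨1,0xf,14,8,[],[]⟩))) (.node (.node (.node (.leaf ⟨0,59,0,0,[],[]⟩) (.leaf ⟨1,0x21,23,1,[],[]⟩)) (.leaf p2z)) (.node (.leaf p2z) (.leaf p2z)))))) (.node (.node (.node (.node (.node (.node (.leaf p2z) (.leaf ⟨1,0x17,5,1,[],[]⟩)) (.leaf ⟨0,19,0,0,[],[]⟩)) (.node (.node (.leaf p2z) (.leaf ⟨1,0x22,5,2,[],[]⟩)) (.leaf ⟨1,0xe,8,6,[],[]⟩))) (.node (.node (.node (.leaf p2z) (.leaf ⟨1,0x1f,15,7,[],[]⟩)) (.leaf p2z)) (.node (.node (.leaf p2z) (.leaf ⟨2,1,0,0,[15,1],[1,15,19]⟩)) (.leaf p2z)))) (.node (.node (.node (.node (.leaf p2z) (.leaf p2z)) (.leaf ⟨1,0xa,6,1,[],[]⟩)) (.node (.node (.leaf ⟨0,31,0,0,[],[]⟩) (.leaf ⟨1,0x24,26,3,[],[]⟩)) (.leaf p2z))) (.node (.node (.node (.leaf p2z) (.leaf ⟨1,0x21,10,2,[],[]⟩)) (.leaf ⟨0,7,0,0,[],[]⟩)) (.node (.leaf p2z) (.leaf ⟨1,0x13,15,9,[],[]⟩))))) (.node (.node (.node (.node (.node (.leaf p2z) (.leaf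 p2z)) (.leaf ⟨1,0xb,6,3,[],[]⟩)) (.node (.node (.leaf p2z) (.leaf ⟨1,0x23,33,3,[],[]⟩)) (.leaf ⟨1,0xf,7,3,[],[]⟩))) (.node (.node (.node (.leaf p2z) (.leaf ⟨1,0x1d,17,1,[],[]⟩)) (.leaf p2z)) (.node (.node (.leaf p2z) (.leaf p2z)) (.leaf ⟨1,0x14,8,5,[],[]⟩)))) (.node (.node (.node (.node (.leaf ⟨0,41,0,0,[],[]⟩) (.leaf ⟨1,0x1e,20,9,[],[]⟩)) (.leaf p2z)) (.node (.node (.leaf p2z) (.leaf p2z)) (.leaf p2z))) (.node (.node (.node (.leaf p2z) (.leaf ⟨1,0x22,3,1,[],[]⟩)) (.leaf ⟨1,0x14,10,1,[],[]⟩)) (.node (.leaf p2z) (.leaf ⟨1,0x12,11,10,[],[]⟩))))))) (.node (.node (.node (.node (.node (.node (.node (.leaf p2z) (.leaf p2z)) (.leaf ⟨1,0x9,4,3,[],[]⟩)) (.node (.node (.leaf ⟨1,0x6,3,1,[],[]⟩) (.leaf ⟨1,0x22,27,1,[],[]⟩)) (.leaf p2z))) (.node (.node (.node (.leaf p2z) (.leaf ⟨1,0x1c,14,5,[],[]⟩)) (.leaf p2z)) (.node (.node (.leaf p2z) (.leaf p2z)) (.leaf ⟨1,0x18,12,3,[],[]⟩)))) (.node (.node (.node (.node (.leaf p2z) (.leaf ⟨1,0x1a,24,3,[],[]⟩)) (.leaf p2z)) (.node (.node (.leaf p2z) (.leaf ⟨1,0x24,16,3,[],[]⟩))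 (.leaf p2z))) (.node (.node (.node (.leaf p2z) (.leaf ⟨1,0x1d,4,2,[],[]⟩)) (.leaf ⟨1,0x10,10,2,[],[]⟩)) (.node (.leaf p2z) (.leaf ⟨1,0x1a,3,1,[],[]⟩))))) (.node (.node (.node (.node (.node (.leaf p2z) (.leaf p2z)) (.leaf p2z)) (.node (.node (.leaf ⟨0,39,0,0,[],[]⟩) (.leaf ⟨1,0x22,26,5,[],[]⟩)) (.leaf p2z))) (.node (.node (.node (.leaf p2z) (.leaf ⟨1,0x20,5,3,[],[]⟩)) (.leaf ⟨1,0xf,13,3,[],[]⟩)) (.node (.node (.leaf p2z) (.leaf p2z)) (.leaf ⟨1,0x19,9,1,[],[]⟩)))) (.node (.node (.node (.node (.leaf p2z) (.leaf ⟨1,0x1b,19,3,[],[]⟩)) (.leaf p2z)) (.node (.node (.leaf p2z) (.leaf p2z)) (.leaf ⟨1,0x17,19,3,[],[]⟩))) (.node (.node (.node (.leaf p2z) (.leaf p2z)) (.leaf ⟨1,0x10,5,1,[],[]⟩)) (.node (.leaf ⟨1,0xa,8,1,[],[]⟩) (.leaf ⟨1,0x17,5,2,[],[]⟩)))))) (.node (.node (.node (.node (.node (.node (.leaf p2z) (.leaf ⟨1,0xd,11,8,[],[]⟩)) (.leaf p2z)) (.node (.node (.leaf p2z) (.leaf ⟨1,0x22,10,5,[],[]⟩)) (.leaf ⟨1,0x10,14,6,[],[]⟩))) (.node (.node (.node (.leaf p2z) (.leaf ⟨1,0x1e,28,5,[],[]⟩)) (.leaf p2z))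 (.node (.node (.leaf ⟨1,0x6,5,2,[],[]⟩) (.leaf p2z)) (.leaf p2z)))) (.node (.node (.node (.node (.leaf p2z) (.leaf ⟨1,0x17,9,3,[],[]⟩)) (.leaf ⟨1,0x10,5,3,[],[]⟩)) (.node (.node (.leaf p2z) (.leaf p2z)) (.leaf ⟨1,0x14,6,3,[],[]⟩))) (.node (.node (.node (.leaf p2z) (.leaf ⟨1,0x21,16,1,[],[]⟩)) (.leaf p2z)) (.node (.leaf p2z) (.leaf ⟨1,0x1a,20,3,[],[]⟩))))) (.node (.node (.node (.node (.node (.leaf p2z) (.leaf ⟨1,0x1a,8,3,[],[]⟩)) (.leaf ⟨0,16,0,0,[],[]⟩)) (.node (.node (.leaf p2z) (.leaf ⟨1,0x21,15,5,[],[]⟩)) (.leaf ⟨1,0x15,11,1,[],[]⟩))) (.node (.node (.node (.leaf p2z) (.leaf ⟨1,0x20,18,1,[],[]⟩)) (.leaf p2z)) (.node (.node (.leaf p2z) (.leaf p2z)) (.leaf p2z)))) (.node (.node (.node (.node (.leaf p2z) (.leaf p2z)) (.leaf ⟨1,0xc,4,3,[],[]⟩)) (.node (.node (.leaf ⟨0,26,0,0,[],[]⟩) (.leaf p2z)) (.leaf ⟨1,0xe,11,1,[],[]⟩))) (.node (.node (.node (.leaf p2z) (.leaf ⟨1,0x1c,15,14,[],[]⟩)) (.leaf p2z)) (.node (.leaf p2z) (.leaf ⟨1,0x17,18,5,[],[]⟩)))))))) (.node (.node (.node (.node (.node (.node (.node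 (.node (.leaf p2z) (.leaf p2z)) (.leaf p2z)) (.node (.node (.leaf ⟨1,0x3,2,1,[],[]⟩) (.leaf ⟨1,0x22,20,9,[],[]⟩)) (.leaf p2z))) (.node (.node (.node (.leaf p2z) (.leaf ⟨1,0x19,11,10,[],[]⟩)) (.leaf ⟨1,0x10,12,3,[],[]⟩)) (.node (.node (.leaf p2z) (.leaf p2z)) (.leaf ⟨1,0xe,13,11,[],[]⟩)))) (.node (.node (.node (.node (.leaf p2z) (.leaf ⟨1,0x14,17,15,[],[]⟩)) (.leaf p2z)) (.node (.node (.leaf p2z) (.leaf ⟨1,0x24,12,3,[],[]⟩)) (.leaf p2z))) (.node (.node (.node (.leaf p2z) (.leaf p2z)) (.leaf ⟨1,0xf,6,1,[],[]⟩)) (.node (.node (.leaf ⟨1,0xc,5,3,[],[]⟩) (.leaf p2z)) (.leaf ⟨1,0xf,12,3,[],[]⟩))))) (.node (.node (.node (.node (.node (.leaf p2z) (.leaf ⟨1,0x1c,18,1,[],[]⟩)) (.leaf p2z)) (.node (.node (.leaf p2z) (.leaf ⟨1,0x23,19,3,[],[]⟩)) (.leaf p2z))) (.node (.node (.node (.leaf p2z) (.leaf ⟨1,0x1d,5,1,[],[]⟩)) (.leaf ⟨0,13,0,0,[],[]⟩)) (.node (.node (.leaf p2z) (.leaf p2z)) (.leaf ⟨1,0x12,8,1,[],[]⟩)))) (.node (.node (.node (.node (.leaf p2z) (.leaf ⟨1,0x1b,15,3,[],[]⟩)) (.leaf p2z)) (.node (.node (.leaf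 p2z) (.leaf p2z)) (.leaf ⟨1,0x17,13,3,[],[]⟩))) (.node (.node (.node (.leaf p2z) (.leaf ⟨1,0x21,29,1,[],[]⟩)) (.leaf ⟨1,0xd,6,1,[],[]⟩)) (.node (.leaf ⟨1,0x8,5,4,[],[]⟩) (.leaf p2z)))))) (.node (.node (.node (.node (.node (.node (.leaf p2z) (.leaf ⟨1,0x1c,5,3,[],[]⟩)) (.leaf p2z)) (.node (.node (.leaf p2z) (.leaf ⟨1,0x19,24,6,[],[]⟩)) (.leaf ⟨1,0xe,12,6,[],[]⟩))) (.node (.node (.node (.leaf ⟨0,50,0,0,[],[]⟩) (.leaf ⟨1,0x1b,26,1,[],[]⟩)) (.leaf p2z)) (.node (.node (.leaf p2z) (.leaf p2z)) (.leaf p2z)))) (.node (.node (.node (.node (.leaf p2z) (.leaf p2z)) (.leaf ⟨1,0xa,6,5,[],[]⟩)) (.node (.node (.leaf ⟨0,25,0,0,[],[]⟩) (.leaf ⟨1,0x24,30,1,[],[]⟩)) (.leaf ⟨1,0x13,4,2,[],[]⟩))) (.node (.node (.node (.leaf p2z) (.leaf ⟨1,0x21,10,6,[],[]⟩)) (.leaf p2z)) (.node (.leaf p2z) (.leaf ⟨1,0x1a,15,1,[],[]⟩))))) (.node (.node (.node (.node (.node (.leaf p2z) (.leaf ⟨1,0x18,7,4,[],[]⟩)) (.leaf ⟨1,0xa,9,6,[],[]⟩)) (.node (.node (.leaf p2z) (.leaf ⟨1,0x23,6,1,[],[]⟩)) (.leaf ⟨1,0x16,3,1,[],[]⟩))) (.node (.node (.node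 (.leaf p2z) (.leaf ⟨1,0x20,14,6,[],[]⟩)) (.leaf p2z)) (.node (.node (.leaf p2z) (.leaf p2z)) (.leaf ⟨0,2,0,0,[],[]⟩)))) (.node (.node (.node (.node (.leaf p2z) (.leaf p2z)) (.leaf p2z)) (.node (.node (.leaf ⟨1,0x5,4,3,[],[]⟩) (.leaf p2z)) (.leaf p2z))) (.node (.node (.node (.leaf p2z) (.leaf ⟨1,0x19,21,11,[],[]⟩)) (.leaf ⟨1,0x11,16,1,[],[]⟩)) (.node (.leaf p2z) (.leaf ⟨1,0xf,14,13,[],[]⟩))))))) (.node (.node (.node (.node (.node (.node (.node (.leaf p2z) (.leaf ⟨1,0x16,2,1,[],[]⟩)) (.leaf ⟨1,0x9,7,4,[],[]⟩)) (.node (.node (.leaf p2z) (.leaf p2z)) (.leaf ⟨1,0xe,6,4,[],[]⟩))) (.node (.node (.node (.leaf p2z) (.leaf ⟨1,0x1c,18,5,[],[]⟩)) (.leaf p2z)) (.node (.node (.leaf p2z) (.leaf p2z)) (.leaf ⟨1,0x18,16,3,[],[]⟩)))) (.node (.node (.node (.node (.leaf p2z) (.leaf ⟨1,0x1c,26,3,[],[]⟩)) (.leaf p2z)) (.node (.node (.leaf p2z) (.leaf ⟨1,0x24,18,1,[],[]⟩)) (.leaf p2z))) (.node (.node (.node (.leaf p2z) (.leaf ⟨1,0x1e,8,1,[],[]⟩)) (.leaf ⟨1,0x13,5,3,[],[]⟩)) (.node (.leaf p2z) (.leaf ⟨1,0x1a,6,5,[],[]⟩)))))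 (.node (.node (.node (.node (.node (.leaf p2z) (.leaf p2z)) (.leaf ⟨1,0xb,4,2,[],[]⟩)) (.node (.node (.leaf ⟨0,29,0,0,[],[]⟩) (.leaf ⟨1,0x23,27,3,[],[]⟩)) (.leaf p2z))) (.node (.node (.node (.leaf p2z) (.leaf ⟨1,0x1b,13,8,[],[]⟩)) (.leaf p2z)) (.node (.node (.leaf p2z) (.leaf p2z)) (.leaf ⟨1,0x11,16,2,[],[]⟩)))) (.node (.node (.node (.node (.leaf p2z) (.leaf ⟨1,0x1e,20,3,[],[]⟩)) (.leaf p2z)) (.node (.node (.leaf p2z) (.leaf p2z)) (.leaf p2z))) (.node (.node (.node (.leaf p2z) (.leaf ⟨1,0x20,4,3,[],[]⟩)) (.leaf ⟨1,0xd,9,6,[],[]⟩)) (.node (.leaf ⟨1,0xd,9,1,[],[]⟩) (.leaf ⟨1,0x18,6,2,[],[]⟩)))))) (.node (.node (.node (.node (.node (.node (.leaf p2z) (.leaf ⟨1,0x1c,12,3,[],[]⟩)) (.leaf p2z)) (.node (.node (.leaf p2z) (.leaf ⟨1,0x23,10,3,[],[]⟩)) (.leaf ⟨1,0x15,11,8,[],[]⟩))) (.node (.node (.node (.leaf p2z) (.leaf p2z)) (.leaf ⟨1,0x9,8,3,[],[]⟩)) (.node (.node (.leaf ⟨1,0x6,6,5,[],[]⟩) (.leaf p2z)) (.leaf p2z)))) (.node (.node (.node (.node (.leaf p2z) (.leaf ⟨1,0x17,9,7,[],[]⟩)) (.leaf ⟨1,0x10,8,5,[],[]⟩))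 (.node (.node (.leaf p2z) (.leaf p2z)) (.leaf ⟨1,0x12,10,6,[],[]⟩))) (.node (.node (.node (.leaf p2z) (.leaf ⟨1,0x21,21,5,[],[]⟩)) (.leaf p2z)) (.node (.leaf p2z) (.leaf p2z))))) (.node (.node (.node (.node (.node (.leaf p2z) (.leaf ⟨1,0x1d,7,5,[],[]⟩)) (.leaf p2z)) (.node (.node (.leaf p2z) (.leaf ⟨1,0x22,11,9,[],[]⟩)) (.leaf ⟨1,0x13,15,3,[],[]⟩))) (.node (.node (.node (.leaf ⟨0,42,0,0,[],[]⟩) (.leaf ⟨1,0x20,26,3,[],[]⟩)) (.leaf p2z)) (.node (.node (.leaf ⟨1,0x7,5,1,[],[]⟩) (.leaf p2z)) (.leaf p2z)))) (.node (.node (.node (.node (.leaf p2z) (.leaf ⟨1,0x1c,5,2,[],[]⟩)) (.leaf ⟨1,0x11,4,1,[],[]⟩)) (.node (.node (.leaf p2z) (.leaf p2z)) (.leaf ⟨1,0x10,9,5,[],[]⟩))) (.node (.node (.node (.leaf p2z) (.leaf ⟨1,0x22,15,1,[],[]⟩)) (.leaf p2z)) (.node (.leaf p2z) (.leaf ⟨1,0x1b,21,1,[],[]⟩))))))))) (.node (.node (.node (.node (.node (.node (.node (.node (.node (.leaf p2z) (.leaf p2z)) (.leaf p2z)) (.node (.node (.leaf p2z) (.leaf ⟨1,0x22,18,1,[],[]⟩)) (.leaf p2z))) (.node (.node (.node (.leaf p2z) (.leaf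 ⟨1,0xd,8,6,[],[]⟩)) (.leaf ⟨1,0x11,10,3,[],[]⟩)) (.node (.node (.leaf p2z) (.leaf p2z)) (.leaf ⟨1,0x18,6,5,[],[]⟩)))) (.node (.node (.node (.node (.leaf p2z) (.leaf ⟨1,0x1d,12,4,[],[]⟩)) (.leaf p2z)) (.node (.node (.leaf p2z) (.leaf ⟨1,0x23,15,6,[],[]⟩)) (.leaf ⟨1,0x16,16,3,[],[]⟩))) (.node (.node (.node (.leaf p2z) (.leaf p2z)) (.leaf ⟨1,0xc,6,4,[],[]⟩)) (.node (.node (.leaf ⟨1,0xc,3,1,[],[]⟩) (.leaf p2z)) (.leaf ⟨1,0x16,5,1,[],[]⟩))))) (.node (.node (.node (.node (.node (.leaf p2z) (.leaf ⟨1,0x1c,20,3,[],[]⟩)) (.leaf p2z)) (.node (.node (.leaf p2z) (.leaf ⟨1,0x23,16,1,[],[]⟩)) (.leaf p2z))) (.node (.node (.node (.leaf p2z) (.leaf ⟨1,0x1c,9,3,[],[]⟩)) (.leaf ⟨1,0xd,9,3,[],[]⟩)) (.node (.node (.leaf p2z) (.leaf p2z)) (.leaf ⟨1,0x12,6,1,[],[]⟩)))) (.node (.node (.node (.node (.leaf p2z) (.leaf ⟨1,0x1e,8,5,[],[]⟩)) (.leaf p2z)) (.node (.node (.leaf p2z) (.leaf p2z)) (.leaf ⟨1,0x14,16,3,[],[]⟩))) (.node (.node (.node (.leaf ⟨0,44,0,0,[],[]⟩) (.leaf ⟨1,0x1e,26,8,[],[]⟩)) (.leaf p2z)) (.node (.leaf ⟨1,0x8,5,2,[],[]⟩)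 (.leaf p2z)))))) (.node (.node (.node (.node (.node (.node (.leaf p2z) (.leaf ⟨1,0x1c,3,1,[],[]⟩)) (.leaf ⟨1,0xe,8,5,[],[]⟩)) (.node (.node (.leaf p2z) (.leaf ⟨1,0x19,24,4,[],[]⟩)) (.leaf ⟨1,0x10,10,3,[],[]⟩))) (.node (.node (.node (.leaf p2z) (.leaf ⟨1,0x1f,16,9,[],[]⟩)) (.leaf p2z)) (.node (.node (.leaf p2z) (.leaf p2z)) (.leaf p2z)))) (.node (.node (.node (.node (.leaf p2z) (.leaf p2z)) (.leaf ⟨1,0xa,6,3,[],[]⟩)) (.node (.node (.leaf ⟨0,32,0,0,[],[]⟩) (.leaf ⟨1,0x24,27,1,[],[]⟩)) (.leaf p2z))) (.node (.node (.node (.leaf p2z) (.leaf ⟨1,0x1a,14,8,[],[]⟩)) (.leaf p2z)) (.node (.leaf p2z) (.leaf ⟨1,0x1a,14,1,[],[]⟩))))) (.node (.node (.node (.node (.node (.leaf p2z) (.leaf ⟨1,0x18,7,2,[],[]⟩)) (.leaf ⟨1,0x9,8,6,[],[]⟩)) (.node (.node (.leaf p2z) (.leaf p2z)) (.leaf ⟨1,0x15,5,1,[],[]⟩))) (.node (.node (.node (.leaf p2z) (.leaf ⟨1,0x20,15,1,[],[]⟩)) (.leaf p2z)) (.node (.node (.leaf p2z) (.leaf p2z)) (.leaf ⟨1,0x19,19,3,[],[]⟩)))) (.node (.node (.node (.node (.leaf p2z) (.leaf ⟨1,0x1e,26,3,[],[]⟩))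 (.leaf p2z)) (.node (.node (.leaf ⟨1,0x5,4,1,[],[]⟩) (.leaf p2z)) (.leaf p2z))) (.node (.node (.node (.leaf p2z) (.leaf ⟨1,0x19,21,9,[],[]⟩)) (.leaf ⟨1,0x14,11,3,[],[]⟩)) (.node (.leaf p2z) (.leaf ⟨1,0x13,12,10,[],[]⟩))))))) (.node (.node (.node (.node (.node (.node (.node (.leaf p2z) (.leaf p2z)) (.leaf ⟨1,0xa,5,3,[],[]⟩)) (.node (.node (.leaf p2z) (.leaf ⟨1,0x22,30,1,[],[]⟩)) (.leaf ⟨1,0x10,4,2,[],[]⟩))) (.node (.node (.node (.leaf p2z) (.leaf ⟨1,0x1c,16,5,[],[]⟩)) (.leaf p2z)) (.node (.node (.leaf p2z) (.leaf p2z)) (.leaf ⟨1,0x15,19,5,[],[]⟩)))) (.node (.node (.node (.node (.leaf ⟨0,47,0,0,[],[]⟩) (.leaf ⟨1,0x1d,19,9,[],[]⟩)) (.leaf p2z)) (.node (.node (.leaf p2z) (.leaf ⟨1,0x24,20,3,[],[]⟩)) (.leaf p2z))) (.node (.node (.node (.leaf p2z) (.leaf ⟨1,0x1e,6,1,[],[]⟩)) (.leaf ⟨1,0x13,9,1,[],[]⟩)) (.node (.leaf p2z) (.leaf ⟨1,0xf,12,9,[],[]⟩))))) (.node (.node (.node (.node (.node (.leaf p2z) (.leaf p2z)) (.leaf p2z)) (.node (.node (.leaf ⟨0,40,0,0,[],[]⟩) (.leaf ⟨1,0x23,23,1,[],[]⟩)) (.leaf p2z)))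 (.node (.node (.node (.leaf p2z) (.leaf ⟨1,0x1d,11,1,[],[]⟩)) (.leaf ⟨1,0x12,12,3,[],[]⟩)) (.node (.node (.leaf p2z) (.leaf ⟨2,2,0,0,[3,2],[2,3,7,8]⟩)) (.leaf ⟨1,0x19,10,3,[],[]⟩)))) (.node (.node (.node (.node (.leaf p2z) (.leaf ⟨1,0x1e,16,3,[],[]⟩)) (.leaf p2z)) (.node (.node (.leaf p2z) (.leaf p2z)) (.leaf p2z))) (.node (.node (.node (.leaf p2z) (.leaf ⟨1,0x21,3,1,[],[]⟩)) (.leaf ⟨1,0x14,3,1,[],[]⟩)) (.node (.leaf ⟨1,0xa,9,2,[],[]⟩) (.leaf ⟨1,0x17,5,4,[],[]⟩)))))) (.node (.node (.node (.node (.node (.node (.leaf p2z) (.leaf ⟨1,0x1c,11,3,[],[]⟩)) (.leaf p2z)) (.node (.node (.leaf p2z) (.leaf ⟨1,0x23,9,1,[],[]⟩)) (.leaf ⟨1,0x15,9,8,[],[]⟩))) (.node (.node (.node (.leaf p2z) (.leaf p2z)) (.leaf ⟨1,0x9,8,1,[],[]⟩)) (.node (.node (.leaf ⟨1,0x6,5,4,[],[]⟩) (.leaf p2z)) (.leaf p2z)))) (.node (.node (.node (.node (.leaf p2z) (.leaf ⟨1,0x12,15,5,[],[]⟩)) (.leaf ⟨1,0x10,6,5,[],[]⟩)) (.node (.node (.leaf p2z) (.leaf ⟨0,63,0,0,[],[]⟩)) (.leaf ⟨1,0x14,8,3,[],[]⟩))) (.node (.node (.node (.leaf p2z) (.leaf ⟨1,0x1e,22,1,[],[]⟩))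 (.leaf p2z)) (.node (.leaf p2z) (.leaf ⟨1,0x19,19,9,[],[]⟩))))) (.node (.node (.node (.node (.node (.leaf p2z) (.leaf ⟨1,0x15,12,10,[],[]⟩)) (.leaf p2z)) (.node (.node (.leaf p2z) (.leaf ⟨1,0x24,3,1,[],[]⟩)) (.leaf ⟨1,0x16,10,1,[],[]⟩))) (.node (.node (.node (.leaf ⟨0,55,0,0,[],[]⟩) (.leaf ⟨1,0x20,20,9,[],[]⟩)) (.leaf p2z)) (.node (.node (.leaf p2z) (.leaf p2z)) (.leaf p2z)))) (.node (.node (.node (.node (.leaf p2z) (.leaf p2z)) (.leaf ⟨0,14,0,0,[],[]⟩)) (.node (.node (.leaf ⟨0,23,0,0,[],[]⟩) (.leaf p2z)) (.leaf ⟨1,0x10,9,3,[],[]⟩))) (.node (.node (.node (.leaf p2z) (.leaf ⟨1,0x22,12,3,[],[]⟩)) (.leaf p2z)) (.node (.leaf p2z) (.leaf ⟨1,0x14,15,13,[],[]⟩)))))))) (.node (.node (.node (.node (.node (.node (.node (.node (.leaf p2z) (.leaf p2z)) (.leaf ⟨1,0xa,3,1,[],[]⟩)) (.node (.node (.leaf ⟨1,0x4,3,1,[],[]⟩) (.leaf ⟨1,0x22,26,3,[],[]⟩)) (.leaf p2z))) (.node (.node (.node (.leaf p2z) (.leaf ⟨1,0x1f,9,1,[],[]⟩)) (.leaf p2z)) (.node (.node (.leaf p2z) (.leaf ⟨2,1,0,0,[5,3],[3,5,9,14]⟩)) (.leaf ⟨1,0x15,15,5,[],[]⟩))))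 (.node (.node (.node (.node (.leaf p2z) (.leaf ⟨1,0x1d,19,3,[],[]⟩)) (.leaf p2z)) (.node (.node (.leaf p2z) (.leaf ⟨1,0x24,15,1,[],[]⟩)) (.leaf p2z))) (.node (.node (.node (.leaf p2z) (.leaf ⟨1,0x1a,8,2,[],[]⟩)) (.leaf ⟨0,3,0,0,[],[]⟩)) (.node (.node (.leaf ⟨1,0xb,9,1,[],[]⟩) (.leaf p2z)) (.leaf ⟨1,0x13,9,5,[],[]⟩))))) (.node (.node (.node (.node (.node (.leaf p2z) (.leaf ⟨1,0x1b,25,6,[],[]⟩)) (.leaf p2z)) (.node (.node (.leaf p2z) (.leaf ⟨1,0x23,21,5,[],[]⟩)) (.leaf p2z))) (.node (.node (.node (.leaf p2z) (.leaf ⟨1,0x20,3,1,[],[]⟩)) (.leaf ⟨1,0xd,9,8,[],[]⟩)) (.node (.node (.leaf p2z) (.leaf ⟨0,66,0,0,[],[]⟩)) (.leaf ⟨1,0x12,10,1,[],[]⟩)))) (.node (.node (.node (.node (.leaf p2z) (.leaf ⟨1,0x1e,10,8,[],[]⟩)) (.leaf p2z)) (.node (.node (.leaf p2z) (.leaf ⟨0,64,0,0,[],[]⟩)) (.leaf ⟨1,0x14,15,8,[],[]⟩))) (.node (.node (.node (.leaf p2z) (.leaf p2z)) (.leaf ⟨1,0xd,6,3,[],[]⟩)) (.node (.leaf ⟨1,0x8,6,5,[],[]⟩) (.leaf p2z)))))) (.node (.node (.node (.node (.node (.node (.leaf p2z) (.leaf ⟨1,0x17,11,1,[],[]⟩))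 (.leaf p2z)) (.node (.node (.leaf p2z) (.leaf ⟨1,0x23,4,2,[],[]⟩)) (.leaf ⟨1,0x15,10,3,[],[]⟩))) (.node (.node (.node (.leaf ⟨0,52,0,0,[],[]⟩) (.leaf ⟨1,0x1f,23,1,[],[]⟩)) (.leaf p2z)) (.node (.node (.leaf p2z) (.leaf p2z)) (.leaf p2z)))) (.node (.node (.node (.node (.leaf p2z) (.leaf ⟨0,6,0,0,[],[]⟩)) (.leaf ⟨1,0x10,3,1,[],[]⟩)) (.node (.node (.leaf p2z) (.leaf ⟨1,0x24,34,5,[],[]⟩)) (.leaf ⟨1,0x12,6,4,[],[]⟩))) (.node (.node (.node (.leaf p2z) (.leaf ⟨1,0x21,10,7,[],[]⟩)) (.leaf p2z)) (.node (.leaf p2z) (.leaf ⟨1,0x1a,14,6,[],[]⟩))))) (.node (.node (.node (.node (.node (.leaf p2z) (.leaf ⟨1,0x1a,6,3,[],[]⟩)) (.leaf ⟨1,0xf,7,5,[],[]⟩)) (.node (.node (.leaf p2z) (.leaf ⟨1,0x23,6,3,[],[]⟩)) (.leaf ⟨1,0x13,9,3,[],[]⟩))) (.node (.node (.node (.leaf p2z) (.leaf ⟨1,0x20,20,3,[],[]⟩)) (.leaf p2z)) (.node (.node (.leaf p2z) (.leaf p2z)) (.leaf p2z)))) (.node (.node (.node (.node (.leaf p2z) (.leaf p2z)) (.leaf ⟨1,0xa,8,2,[],[]⟩)) (.node (.node (.leaf ⟨1,0x5,5,4,[],[]⟩) (.leaf p2z)) (.leaf p2z))) (.node (.node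 (.node (.leaf p2z) (.leaf ⟨1,0x22,10,1,[],[]⟩)) (.leaf ⟨1,0x14,15,1,[],[]⟩)) (.node (.leaf p2z) (.leaf ⟨1,0x17,16,5,[],[]⟩))))))) (.node (.node (.node (.node (.node (.node (.node (.leaf p2z) (.leaf ⟨1,0x19,6,3,[],[]⟩)) (.leaf ⟨1,0xa,9,3,[],[]⟩)) (.node (.node (.leaf p2z) (.leaf p2z)) (.leaf ⟨1,0x10,6,3,[],[]⟩))) (.node (.node (.node (.leaf p2z) (.leaf ⟨1,0x1f,16,1,[],[]⟩)) (.leaf p2z)) (.node (.node (.leaf p2z) (.leaf p2z)) (.leaf ⟨1,0x18,20,3,[],[]⟩)))) (.node (.node (.node (.node (.leaf p2z) (.leaf p2z)) (.leaf p2z)) (.node (.node (.leaf ⟨1,0x5,3,2,[],[]⟩) (.leaf ⟨1,0x23,27,6,[],[]⟩)) (.leaf p2z))) (.node (.node (.node (.leaf p2z) (.leaf ⟨1,0x19,16,10,[],[]⟩)) (.leaf ⟨1,0x10,15,1,[],[]⟩)) (.node (.leaf p2z) (.leaf ⟨1,0x1a,10,1,[],[]⟩))))) (.node (.node (.node (.node (.node (.leaf p2z) (.leaf p2z)) (.leaf ⟨1,0x9,6,4,[],[]⟩)) (.node (.node (.leaf ⟨1,0x8,3,1,[],[]⟩) (.leaf ⟨1,0x23,29,1,[],[]⟩)) (.leaf ⟨1,0x11,6,1,[],[]⟩))) (.node (.node (.node (.leaf p2z) (.leaf ⟨1,0x20,11,3,[],[]⟩)) (.leaf p2z))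 (.node (.node (.leaf p2z) (.leaf ⟨2,2,0,0,[9,1],[1,9,12]⟩)) (.leaf ⟨1,0x19,13,3,[],[]⟩)))) (.node (.node (.node (.node (.leaf p2z) (.leaf ⟨1,0x1b,25,3,[],[]⟩)) (.leaf p2z)) (.node (.node (.leaf p2z) (.leaf p2z)) (.leaf p2z))) (.node (.node (.node (.leaf p2z) (.leaf ⟨1,0x19,21,5,[],[]⟩)) (.leaf ⟨1,0x10,11,1,[],[]⟩)) (.node (.leaf p2z) (.leaf ⟨1,0x14,9,8,[],[]⟩)))))) (.node (.node (.node (.node (.node (.node (.leaf p2z) (.leaf ⟨1,0x1c,15,1,[],[]⟩)) (.leaf p2z)) (.node (.node (.leaf p2z) (.leaf ⟨1,0x22,16,5,[],[]⟩)) (.leaf p2z))) (.node (.node (.node (.leaf p2z) (.leaf p2z)) (.leaf ⟨1,0xe,5,2,[],[]⟩)) (.node (.node (.leaf ⟨0,21,0,0,[],[]⟩) (.leaf p2z)) (.leaf ⟨1,0xd,7,2,[],[]⟩)))) (.node (.node (.node (.node (.leaf p2z) (.leaf ⟨1,0x1b,9,3,[],[]⟩)) (.leaf ⟨0,18,0,0,[],[]⟩)) (.node (.node (.leaf p2z) (.leaf p2z)) (.leaf ⟨1,0x13,12,4,[],[]⟩))) (.node (.node (.node (.leaf ⟨0,57,0,0,[],[]⟩) (.leaf ⟨1,0x1e,26,1,[],[]⟩)) (.leaf p2z)) (.node (.leaf p2z) (.leaf p2z))))) (.node (.node (.node (.node (.node (.leaf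 p2z) (.leaf ⟨1,0x1d,10,3,[],[]⟩)) (.leaf p2z)) (.node (.node (.leaf p2z) (.leaf ⟨1,0x24,6,5,[],[]⟩)) (.leaf ⟨1,0x16,14,1,[],[]⟩))) (.node (.node (.node (.leaf p2z) (.leaf ⟨1,0x20,27,1,[],[]⟩)) (.leaf p2z)) (.node (.node (.leaf ⟨1,0x9,3,1,[],[]⟩) (.leaf p2z)) (.leaf p2z)))) (.node (.node (.node (.node (.leaf p2z) (.leaf ⟨1,0x1b,4,2,[],[]⟩)) (.leaf ⟨1,0xc,10,3,[],[]⟩)) (.node (.node (.leaf p2z) (.leaf p2z)) (.leaf ⟨1,0xe,11,7,[],[]⟩))) (.node (.node (.node (.leaf p2z) (.leaf ⟨1,0x22,16,3,[],[]⟩)) (.leaf p2z)) (.node (.leaf p2z) (.leaf ⟨1,0x1b,21,5,[],[]⟩)))))))))))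
noncomputable def p2rd : Tr Desc := (.node (.node (.node (.node (.node (.node (.leaf p2z) (.leaf ⟨2,2,0,0,[10,1],[1,10,13]⟩)) (.leaf ⟨2,1,0,0,[16,15],[15,16]⟩)) (.node (.leaf ⟨2,2,0,0,[12,12],[]⟩) (.leaf ⟨1,0xb,3,3,[],[]⟩))) (.node (.node (.leaf ⟨2,2,0,0,[3,3],[]⟩) (.leaf ⟨2,0,0,0,[5,1],[1,5]⟩)) (.node (.leaf ⟨2,2,0,0,[4,4],[]⟩) (.leaf ⟨1,0x4,4,1,[],[]⟩)))) (.node (.node (.node (.leaf ⟨2,0,0,0,[1,1],[]⟩) (.leaf ⟨2,2,0,0,[11,2],[2,11]⟩)) (.node (.leaf ⟨2,2,0,0,[11,11],[]⟩) (.leaf ⟨2,0,0,0,[21,10],[10,21]⟩))) (.node (.node (.leaf ⟨2,0,0,0,[14,14],[]⟩) (.leaf ⟨2,2,0,0,[10,9],[9,10]⟩)) (.node (.leaf ⟨1,0xf,8,8,[],[]⟩) (.leaf ⟨2,1,0,0,[16,2],[2,16,19]⟩))))) (.node (.node (.node (.node (.node (.leaf p2z) (.leaf ⟨2,2,0,0,[10,2],[2,10,12]⟩)) (.leaf ⟨2,2,0,0,[11,1],[1,11]⟩)) (.node (.leaf ⟨2,1,0,0,[10,10],[]⟩) (.leaf ⟨2,2,0,0,[11,10],[10,11]⟩))) (.node (.node (.leaf ⟨2,2,0,0,[8,8],[]⟩) (.leaf ⟨2,1,0,0,[11,2],[2,11]⟩)) (.node (.leaf ⟨1,0x13,3,3,[],[]⟩) (.leaf ⟨2,1,0,0,[12,4],[4,12,18]⟩)))) (.node (.node (.node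 (.leaf ⟨2,1,0,0,[9,9],[]⟩) (.leaf ⟨2,0,0,0,[21,9],[9,21]⟩)) (.node (.leaf ⟨2,0,0,0,[2,2],[]⟩) (.leaf ⟨1,0xa,10,6,[],[]⟩))) (.node (.node (.leaf ⟨2,0,0,0,[21,21],[]⟩) (.leaf ⟨2,0,0,0,[2,1],[1,2]⟩)) (.node (.leaf ⟨2,2,0,0,[6,3],[3,6]⟩) (.leaf ⟨1,0xb,4,4,[],[]⟩))))))
noncomputable def D2 : Dat where
  p := 2
  q := 4
  n1 := 37
  b := 6
  fl := 4
  ew := 34
  T := p2T
  w := 12
  fuel := 61
  nf := 3
  cm := 37
  q1 := fun x => look 0xffffff p2q1 (Nat.mul 24 x)
  q2 := fun x => look 0xffffff p2q2 (Nat.mul 24 x)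
  NV := 1480
  d := 68
  w2 := 15
  NF := fun x => p2NF.get x
  tm := fun x => look 0x3ff p2tm (Nat.mul 10 x)
  TM := 777
  par := fun x => look 0x7ff p2par (Nat.mul 11 x)
  ds := fun x => p2ds.get x
  r := 34
  s0 := 2
  gv := fun x => look p2mgv p2gv (Nat.mul 1020 x)
  rd := fun x => p2rd.get x
  av := fun x => look p2mav p2av (Nat.mul 1020 x)
  mw := 3
  mu := fun x => p2mu.get x
  ms := [2,2]
  om := fun x => look p2mom p2om (Nat.mul 102 x)

end Cfsg.Agent.Mult.E62
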