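import Cfsg.Agent.Lib.Mult.E62.Pc
import Cfsg.Agent.Lib.Mult.E62.P2D
import Cfsg.Agent.Lib.Tw.MultE6
import Cfsg.Agent.Lib.Chev.Collect

/-! The unipotent group of `E₆(4)` by a power-commutator presentation. -/

set_option autoImplicit false
set_option maxRecDepth 100000
set_option Elab.async false

namespace Cfsg.Agent.Mult.E62

open Cfsg.Agent.CG Cfsg.Agent.PcX Cfsg.Lie
open Cfsg.Agent.Chev (StRel byteAt levE6 ctE6 collFor_E6)

/-- A field with four elements and a generator. -/
structure F4 (K : Type*) [Field K] (ω : K) : Prop where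
  two : (1 : K) + 1 = 0
  sq : ω * ω = 1 + ω
  all : ∀ t : K, t = 0 ∨ t = 1 ∨ t = ω ∨ t = 1 + ω

variable {K : Type*} [Field K] {ω : K}

theorem exists_F4 [Fintype K] (hK : Fintype.card K = 4) : ∃ ω : K, F4 K ω := by
  classical
  have h4 : ∀ t : K, t ^ 4 = t := fun t => hK ▸ FiniteField.pow_card t
  have h2 : (1 : K) + 1 = 0 := by
    have := FiniteField.cast_card_eq_zero K
    rw [hK] at this
    exact mul_self_eq_zero.mp (by push_cast at this; linear_combination this)
  obtain ⟨ω, hω⟩ : ∃ ω : K, ω ∉ ({0, 1} : Finset K) :=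
    (Finset.exists_mem_notMem_of_card_lt_card (s := {0, 1}) (t := Finset.univ)
      (Finset.card_le_two.trans_lt (by simp [hK]))).imp fun _ h => h.2
  simp only [Finset.mem_insert, Finset.mem_singleton, not_or] at hω
  have h3 : ω * ω = 1 + ω := by
    have : ω * (ω - 1) * (ω * ω + ω + 1) = 0 := by linear_combination h4 ω
    have := (mul_eq_zero.mp this).resolve_left (mul_ne_zero hω.1 (sub_ne_zero.mpr hω.2))
    linear_combination this - (1 + ω) * h2
  refine ⟨ω, h2, h3, fun t => ?_⟩
  have : t * ((t - 1) * ((t - ω) * (t - (1 + ω)))) = 0 := by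
    linear_combination h4 t + (t * t - t) * h3 + (ω * t * t - t * t * t - ω * t * t * t + t * t + ω * t * t - ω * t) * h2
  simpa [sub_eq_zero] using this

namespace F4
variable (h : F4 K ω)
include h

theorem neg (t : K) : -t = t := by linear_combination (-t) * h.two

theorem cube : ω ^ 3 = 1 := by linear_combination (ω + 1) * h.sq + (ω + ω * ω) * h.two - ω * ω * h.two + 0 * h.sq

theorem ne_zero : ω ≠ 0 := fun e => by simpa [e] using h.cube

theorem ne_one : ω ≠ 1 := fun e => by simpa [e] using h.sq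

theorem sign {c : ℤ} (hc : c = 1 ∨ c = -1) : (c : K) = 1 := by
  rcases hc with rfl | rfl <;> simp [h.neg]

end F4

/-- The root of a letter. -/
def rt : ℕ → ℕ := byteAt 0x474746464545444442424141434337373f3f404036363c3c35353e3e343433333d3d31313b3b2d2d323230302c2c3a3a29292f2f2b2b2828393926262e2e272725252a2a2424383800

/-- The exponent of a letter. -/
def ex (c : ℕ) : ℕ := Nat.mod (Nat.succ c) 2

/-- The first letter of a root. -/
def lt (r : ℕ) : ℕ := Nat.succ (Nat.mul 2 (levE6.ord r))

/-- The word of `x_r(ω ^ e)`. -/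
def xw (r e : ℕ) : ℕ :=
  if e % 3 = 0 then lt r else if e % 3 = 1 then lt r + 1 else (lt r + 1) * 2 ^ 7 + lt r

variable {G : Type*} [Group G] (x : ℕ → K → G) (ω) in
/-- The generators. -/
def z (c : ℕ) : G := if c = 0 then 1 else x (rt c) (ω ^ ex c)

variable {G : Type*} [Group G] {x : ℕ → K → G} (hx : StRel chevE6 x) (hω : F4 K ω)

theorem z_zero : z ω x 0 = 1 := rfl

theorem z_pos {c : ℕ} (h : 0 < c) : z ω x c = x (rt c) (ω ^ ex c) := if_neg h.ne'

theorem lt_spec : ∀ r < 72, 36 ≤ r → rt (lt r) = r ∧ rt (lt r + 1) = r ∧ lt r + 1 < 2 ^ 7 ∧ ex (lt r) = 0 ∧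
    ex (lt r + 1) = 1 := by decide +kernel

include hx hω in
theorem evN_xw {r : ℕ} (h1 : 36 ≤ r) (h2 : r < 72) (e : ℕ) : evN (z ω x) 7 (xw r e) = x r (ω ^ e) := by
  obtain ⟨a1, a2, a3, a4, a5⟩ := lt_spec r h2 h1
  have b1 : z ω x (lt r) = x r 1 := by rw [z_pos (c := lt r) (Nat.succ_pos _), a1, a4, pow_zero]
  have b2 : z ω x (lt r + 1) = x r ω := by rw [z_pos (Nat.succ_pos _), a2, a5, pow_one]
  rw [pow_eq_pow_mod e hω.cube, xw]
  split_ifs with c1 c2
  · rw [evN_single (by decide) z_zero (by omega), b1, c1, pow_zero]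
  · rw [evN_single (by decide) z_zero a3, b2, c2, pow_one]
  · rw [evN_cons (by decide) z_zero (by omega), evN_single (by decide) z_zero a3, b1, b2, hx.add r _ _ h2,
      show e % 3 = 2 by omega, sq, hω.sq]

/-- The check of a rule against the commutator formula. -/
noncomputable def chk6 (j i : ℕ) : Bool :=
  force (rt i) fun r => force (rt j) fun s => force (R6.wd j i) fun u =>
    decide (36 ≤ r) && decide (r < 72) && decide (36 ≤ s) && decide (s < 72) &&
    if i = j then u == 0 else if r = s then u == j else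
      match ctE6 r s with
      | [] => u == j
      | [(k, c, 1, 1)] => (c == 1 || c == -1) && decide (36 ≤ k) && decide (k < 72) &&
          u == xw k (ex i + ex j) * 2 ^ 7 + j
      | _ => false

theorem chk6_all : allLt (fun j => allLt (fun i => bor (Nat.beq i 0) (chk6 j i)) (j + 1)) 73 = true := by
  decide +kernel

include hx hω in
theorem rel6 : Rel R6 (0 < ·) (z ω x) := fun j i hj hi h1 h2 => by
  have h2 : j < 73 := h2
  have h := ((bor_eq _ _).mp ((allLt_iff _ _).mp ((allLt_iff _ _).mp chk6_all j h2) i (by omega))).resolve_left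
    (by rw [beq_iff]; omega)
  simp only [chk6, force_eq, Bool.and_eq_true, decide_eq_true_eq] at h
  obtain ⟨⟨⟨⟨a1, a2⟩, a3⟩, a4⟩, h⟩ := h
  have e0 : ∀ u, R6.wd j i = u → i < j → z ω x j * z ω x i = z ω x i * evN (z ω x) 7 u →
      z ω x j * z ω x i = ev (z ω x) (R6.rhs j i) := fun u e a b => by
    rw [b, Tb.rhs, if_pos a, ← e]; exact (ev_cons _ _ _).symm
  have ej : evN (z ω x) 7 j = z ω x j := evN_single (by decide) z_zero (by omega)
  split_ifs at h with b1 b2
  · subst b1
    have : R6.rhs i i = Nat.digits (2 ^ 7) (R6.wd i i) := by rw [Tb.rhs, if_neg (lt_irrefl i)]; rfl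
    rw [this, beq_iff_eq.mp h, z_pos hi, hx.add _ _ _ a2, ← one_mul (ω ^ _), ← add_mul, hω.two, zero_mul, hx.zero a2]
    simp
  · refine e0 _ (beq_iff_eq.mp h) (by omega) ?_
    rw [ej, z_pos hi, z_pos hj, b2, hx.add _ _ _ a4, hx.add _ _ _ a4, add_comm]
  have hc := hx.comm (rt i) (rt j) (ω ^ ex i) (ω ^ ex j) a2 a4 (Ne.symm b2) (by
    rw [show ∀ r < 72, chevE6.neg r = 71 - r by decide +kernel] <;> omega)
  rw [ChevalleyDatum.commWord, ← (collFor_E6 0 id).ct _ a2 _ a4, ← z_pos (x := x) hi, ← z_pos (x := x) hj, mul_assoc, mul_assoc,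
    inv_mul_eq_iff_eq_mul, inv_mul_eq_iff_eq_mul] at hc
  change _ = _ * (_ * Chev.wordVal x ((ctE6 _ _).map _)) at hc
  split at h
  · rename_i e
    refine e0 _ (beq_iff_eq.mp h) (by omega) ?_
    simpa [e, ej] using hc
  · rename_i k c e
    simp only [Bool.and_eq_true, decide_eq_true_eq, beq_iff_eq, Bool.or_eq_true] at h
    refine e0 _ h.2 (by omega) ?_
    rw [evN_cons (by decide) z_zero (by omega), evN_xw hx hω h.1.1.2 h.1.2, hc, e]
    simp [hω.sign h.1.1.1, hω.neg, pow_add]
  · cases h

/-- The word of a generator of the twisted group. -/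
noncomputable def sb (c : ℕ) : ℕ := look 2097151 SB (Nat.mul 21 c)

variable (ω x) in
/-- The generators of the twisted group. -/
noncomputable def yv (c : ℕ) : G := evN (z ω x) 7 (sb c)

/-- The presentation of the Sylow subgroup. -/
noncomputable def RD : Tb := ⟨6, 37, p2T, 34, 4⟩

theorem fmtD : RD.Fmt := Tb.fmt_of (by decide +kernel)

theorem cT : (R6.wc 0 fun cf => allLt (chkRow cf RT (blt 0) sb) 39) = true := by decide +kernel
theorem cD : (R6.wc 0 fun cf => allLt (chkRow cf RD (blt 0) sb) 37) = true := by decide +kernel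

include hx hω in
theorem relT : Rel RT (0 < ·) (yv ω x) := by
  obtain ⟨cf, h1, h2⟩ := Tb.wc_ok fmt6 z_zero (rel6 hx hω) cT
  exact (rel_of_chk fmtT h1 ((allLt_iff _ _).mp h2)).2.mono fun _ => (blt_iff _ _).mpr

include hx hω in
theorem relD : Rel RD (0 < ·) (yv ω x) := by
  obtain ⟨cf, h1, h2⟩ := Tb.wc_ok fmt6 z_zero (rel6 hx hω) cD
  exact (rel_of_chk fmtD h1 ((allLt_iff _ _).mp h2)).2.mono fun _ => (blt_iff _ _).mpr

/-- The action of the conjugation number `f` on the roots. -/
def ρt (f r : ℕ) : ℕ := byteAt 0x47464544434241403f3e3d3c3b3a393837363534333231302f2e2d2c2b2a292827262524232221201f1e1d1c1b1a191817161514131211100f0e0d0c0b0a0908070605040302010047464544434241403f3e3d3c3b3a393837363534333231302f2e2d2c2b2a292827262524232221201f1e1d1c1b1a191817161514131211100f0e0d0c0b0a090807060504030201004745464443423f3e41403d3c3b393a3837343336353231302e2f2d2c2a2b262520292824231f1e2722211c1d1b1a181917161512111413100f0d0e0c0b0a0706090805040301020046474544434241403c3b3a3f3e3d39383736352d2c2b292827193433322a31302f2625242322211817161d1514132e201f1e1c1b1a1211100f0e0a09080d0c0b070605040302000147464142404445433f3d3e3c3a3b3839363735312f303432332e2927281d2d2b2c2422262125231b1c1a2a1f201e191415131718161210110e0f0c0d0b090a08040203070506010047464543443735363334322c2d2b2a0f4240413e3f3d30312f2e3b3c3a39282927252623242122201e1f0e0d0b0c191816170a0809060705381d1c1a1b1513141112100304020100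
  (Nat.add (Nat.mul 72 f) r)

/-- The action of the conjugation number `f` on the parameters. -/
def et (f r : ℕ) : ℕ := byteAt 0x20101000200020100020101020201000100020201000001000202020100020101020201000201010100020000020101000200020101020201000201000100020201000000000000020101000200020100020101020201000100020201000001000202020100020101020201000201010100020000020101000200020101020201000201000100020201000000000000000000000000000000000000000000000000000000000000000000000000000000000000000000000000000000000000000000000000000000000000000000000000000000000000000000000000000000000000000000000000000000000000000000000000000000000000000000000000000000000000000000000000000000000000000000000000000000000000000000000000000000000000000000000000000000000000000000000000000000000000000000000000000000000000000000000000000000000000000000000000000000000000000000000000000000000000000000000000000000000000000000000000000000000000000000000000000000000000000000000000000000000000000000000000000000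
  (Nat.add (Nat.mul 72 f) r)

variable (ω x) in
/-- `g` induces the conjugation number `f`. -/
def Act (f : ℕ) (g : G) : Prop := ∀ r < 72, ∀ u, g * x r u * g⁻¹ = x (ρt f r) (ω ^ et f r * u)

/-- The conjugate of a letter. -/
def fm (f c : ℕ) : ℕ := xw (ρt f (rt c)) (et f (rt c) + ex c)

/-- The conjugation number `f` maps the word `u` to the word `v`, and both have letters below `n`. -/
noncomputable def chkF (cf : ℕ → ℕ → (ℕ → Bool) → Bool) (n f u v : ℕ) : Bool :=
  band (RT.ok u) (band (RT.ok v) (band (allL (blt · n) (RT.dg u)) (band (allL (blt · n) (RT.dg v))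
    (band (okp 7 3 (mapL sb (RT.dg u)))
    (band (allL (fun c => band (blt 0 c) (band (blt (rt c) 72) (band (Nat.ble 36 (ρt f (rt c))) (blt (ρt f (rt c)) 72))))
      (unp 7 3 (mapL sb (RT.dg u))))
      (eqC cf (mapL (fm f) (unp 7 3 (mapL sb (RT.dg u)))) (mapL sb (RT.dg v))))))))

include hx hω in
theorem chkF_sound {cf : ℕ → ℕ → (ℕ → Bool) → Bool} (hc : ClOK (z ω x) 7 cf) {n f u v : ℕ}
    (h : chkF cf n f u v = true) : (∀ c ∈ Nat.digits (2 ^ 6) u, c < n) ∧ (∀ c ∈ Nat.digits (2 ^ 6) v, c < n) ∧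
      ∀ g, Act ω x f g → g * evN (yv ω x) 6 u * g⁻¹ = evN (yv ω x) 6 v := by
  simp only [chkF, band_eq, allL_iff, blt_iff] at h
  obtain ⟨h1, h2, h3, h4, h5, h6, h7⟩ := h
  rw [Tb.dg_eq fmtT.hb h1] at h3 h5 h6 h7
  rw [Tb.dg_eq fmtT.hb h2] at h4 h7
  refine ⟨h3, h4, fun g hg => ?_⟩
  have h8 := hc.eqC h7
  rw [ev_mapL, ev_mapL] at h8
  refine Eq.trans ?_ h8
  refine (congrArg (MulAut.conj g).toMonoidHom ((ev_mapL 7 sb _).symm.trans
    (ev_unp _ (by decide) _ h5).symm)).trans ((map_ev _ _ _).trans (ev_congr _ fun c hc => ?_))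
  obtain ⟨a1, a2, a3, a4⟩ := h6 c hc
  rw [fm, evN_xw hx hω a3 a4, z_pos a1, pow_add]
  exact hg _ a2 _

theorem cF : (R6.wc 0 fun cf => band
    (allLt (fun f => allLt (fun c => bor (bnot (sf f c)) (chkF cf 39 f c (qt f c))) 39) 6)
    (allLt (fun f => allLt (fun c => chkF cf 37 (f + 1) (D2.q1 (f * 37 + c)) (D2.q2 (f * 37 + c))) 37) 3)) = true := by
  decide +kernel

include hx hω in
theorem fusT {f c : ℕ} (hf : f < 6) (hc : c < 39) (hs : sf f c = true) : (∀ a ∈ Nat.digits (2 ^ 6) (qt f c), a < 39) ∧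
    ∀ g, Act ω x f g → g * yv ω x c * g⁻¹ = evN (yv ω x) 6 (qt f c) := by
  obtain ⟨cf, h1, h2⟩ := Tb.wc_ok fmt6 z_zero (rel6 hx hω) cF
  simp only [band_eq, allLt_iff, bor_eq, bnot_eq] at h2
  have := chkF_sound hx hω h1 ((h2.1 f hf c hc).resolve_left (by simp [hs]))
  rw [evN_single (by decide) (show yv ω x 0 = 1 from evN_zero) (by omega)] at this
  exact this.2

include hx hω in
theorem fusD {f c : ℕ} (hf : f < 3) (hc : c < 37) : (∀ a ∈ Nat.digits (2 ^ 6) (D2.q1 (f * 37 + c)), a < 37) ∧
    (∀ a ∈ Nat.digits (2 ^ 6) (D2.q2 (f * 37 + c)), a < 37) ∧ ∀ g, Act ω x (f + 1) g →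
      g * evN (yv ω x) 6 (D2.q1 (f * 37 + c)) * g⁻¹ = evN (yv ω x) 6 (D2.q2 (f * 37 + c)) := by
  obtain ⟨cf, h1, h2⟩ := Tb.wc_ok fmt6 z_zero (rel6 hx hω) cF
  simp only [band_eq, allLt_iff] at h2
  exact chkF_sound hx hω h1 (h2.2 f hf c hc)

end Cfsg.Agent.Mult.E62
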